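import Cfsg.Agent.Alex.Exc
import Cfsg.Agent.Spor.CharKit2
import Cfsg.Agent.Char.Galois
import Cfsg.Agent.Char.Linear

/-!
# The numerical data attached to a self-centralizing subgroup of prime order with automizer `2`
-/

set_option autoImplicit false

namespace Cfsg.Lib.Alex

open Cfsg Subgroup Cfsg.Lib.Char Cfsg.Lib.Cls2 Cfsg.Lib.Spor.CKit
open scoped ComplexConjugate

variable {G : Type*} [Group G] [Fintype G] {P : Subgroup G} {p : ℕ} {b : G} {χ : G → ℂ} {δ : ℤ}

theorem pc_eq_card (u v c : G) :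
    pc u v c = Nat.card {p : G × G // IsConj u p.1 ∧ IsConj v p.2 ∧ p.1 * p.2 = c} := by
  classical
  rw [pc, ← Fintype.card_subtype, ← Nat.card_eq_fintype_card]
  exact Nat.card_congr
    { toFun := fun x => ⟨(x.1, x.1⁻¹ * c), x.2.1, x.2.2, by simp⟩
      invFun := fun x => ⟨x.1.1, x.2.1, (eq_inv_mul_of_mul_eq x.2.2.2) ▸ x.2.2.1⟩
      left_inv := fun x => rfl
      right_inv := fun x => by
        ext
        · rfl
        · simp [← x.2.2.2] }

theorem Su.zpowers_eq (S : Su P p b) {c : G} (hc : c ∈ P) (h1 : c ≠ 1) : zpowers c = P :=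
  eq_of_le_of_card_ge (zpowers_le.2 hc) (by rw [Nat.card_zpowers, S.ord hc h1, S.card])

omit [Fintype G] in
theorem Su.exists_mem (S : Su P p b) : ∃ c ∈ P, c ≠ 1 := by
  by_contra h
  push Not at h
  have := S.card
  rw [(eq_bot_iff_forall P).2 h, card_bot] at this
  exact S.pp.one_lt.ne this

omit [Fintype G] in
theorem Su.ord_b (S : Su P p b) : orderOf b = 2 :=
  orderOf_eq_prime (by rw [pow_two, S.sq]) fun h => S.notMem (h ▸ P.one_mem)

omit [Fintype G] in
theorem Su.not_dvd_two (S : Su P p b) : ¬ p ∣ 2 := fun h =>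
  S.p2 ((Nat.prime_dvd_prime_iff_eq S.pp Nat.prime_two).1 h)

theorem Su.pc_b (S : Su P p b) {c : G} (hc : c ∈ P) (h1 : c ≠ 1) : pc b b c = p := by
  rw [pc_eq_card, card_pairs_of_inverts (S.inv c hc) S.sq
    (by rw [S.ord hc h1]; exact S.pp.odd_of_ne_two S.p2), S.ord hc h1]
  rw [S.zpowers_eq hc h1]
  ext g
  rw [mem_centralizer_singleton_iff]
  exact ⟨S.cent c hc h1 g, fun hg => congrArg Subtype.val (S.comm ⟨g, hg⟩ ⟨c, hc⟩)⟩

theorem Su.isConj_of_pc (S : Su P p b) {c t : G} (hc : c ∈ P) (h1 : c ≠ 1) (ht : orderOf t = 2)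
    (h : pc t t c ≠ 0) : IsConj b t := by
  classical
  obtain ⟨x, hx⟩ := Finset.card_ne_zero.1 h
  obtain ⟨h2, h3⟩ := (Finset.mem_filter.1 hx).2
  have t2 : t * t = 1 := by rw [← pow_two, ← ht, pow_orderOf_eq_one]
  have h4 := inverts_of_mul_eq (y := c) (mul_self_of_isConj t2 h2) (mul_self_of_isConj t2 h3)
    (by simp)
  refine IsConj.trans ?_ h2.symm
  rcases S.ti c hc h1 x (h4 ▸ inv_mem hc) with h5 | h5
  · obtain ⟨g, rfl⟩ := isConj_iff.1 h2
    rw [S.reg (g := t) (by rw [ht]; exact S.not_dvd_two) g h5, orderOf_one] at ht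
    omega
  · have := isConj_mul_of_inverts (S.inv c hc)
      (by rw [S.ord hc h1]; exact S.pp.odd_of_ne_two S.p2) ((S.zpowers_eq hc h1).ge h5)
    exact this.trans (isConj_iff.2 ⟨b⁻¹, by group⟩)

open Classical in
theorem Su.sum_sing (S : Su P p b) :
    2 * ((Finset.univ.filter fun g : G => p ∣ orderOf g).card : ℂ) = P.index * (p - 1) := by
  have := Fintype.ofFinite P
  have h1b : (1 : G) ≠ b := fun h => S.notMem (h ▸ P.one_mem)
  let ι : P → ℂ := fun n => if n = 1 then 0 else 1
  have hι : IsClassFunction P ι := fun x y => by simp [ι]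
  have h := sum_indFun_mul P ι (χ := fun _ => 1) (fun _ _ => rfl)
  have h2 : ∀ g, indFun P ι g = if p ∣ orderOf g then 2 else 0 := by
    intro g
    split_ifs with hg
    · obtain ⟨k, hk, hk1⟩ := S.sing hg
      rw [← indFun_isClassFunction P ι g k]
      generalize k * g * k⁻¹ = c at hk hk1
      rw [indFun_eq_sum_of_transversal P hι c {1, b}, Finset.sum_pair h1b, S.inv c hk, one_mul,
        inv_one, mul_one, extendByZero_of_mem P _ hk, extendByZero_of_mem P _ (inv_mem hk)]
      · simp [ι, hk1]; norm_num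
      · intro s hs t ht hst
        simp only [Finset.mem_insert, Finset.mem_singleton] at hs ht
        rcases hs with rfl | rfl <;> rcases ht with rfl | rfl
        · rfl
        · exact absurd (by simpa using hst) S.notMem
        · exact absurd (by simpa using hst) S.notMem
        · rfl
      · intro g hg
        have hgC : g * c * g⁻¹ ∈ P := by
          by_contra h; exact hg (extendByZero_of_notMem P _ h)
        rcases S.ti c hk hk1 g hgC with h | h
        · exact ⟨1, by simp, by simpa using h⟩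
        · exact ⟨b, by simp, h⟩
    · exact indFun_eq_zero P ι fun x hx => by simp [ι, S.reg hg x hx]
  have h3 : ∑ n : P, ι n * 1 = p - 1 := by
    have : ∀ n, ι n * 1 = 1 - if n = 1 then 1 else 0 := fun n => by
      simp only [ι]; split_ifs <;> simp
    simp only [this, Finset.sum_sub_distrib, Finset.sum_ite_eq', Finset.sum_const,
      Finset.card_univ, ← Nat.card_eq_fintype_card, S.card]
    simp
  rw [h3] at h
  rw [← h]
  simp only [h2, mul_one, ← Finset.sum_filter]
  simp [mul_comm]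

namespace Ch

theorem sq (C : Ch P χ δ) : (δ : ℂ) * δ = 1 := by rcases C.sgn with rfl | rfl <;> simp

theorem val_P (C : Ch P χ δ) (S : Su P p b) {c : G} (hc : c ∈ P) (h1 : c ≠ 1) : χ c = δ := by
  have := Fintype.ofFinite P
  have h := fourier S.comm (f := fun n : P => conj (χ n)) (E := δ) (fun ν hν => ?_)
    (m := ⟨c, hc⟩) (fun e => h1 (congrArg Subtype.val e))
  · simpa using congrArg conj h
  obtain ⟨θ, h2, -, h4, h5⟩ := C.ind ν hν
  have h6 := sum_indFun_mul P (ExcData.ph (MonoidHom.id P) ν) C.irr.isClassFunction.conj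
  have a1 := card_mul_classInner θ χ
  have a2 := card_mul_classInner χ χ
  have a3 := card_mul_classInner (fun _ => 1) χ
  rw [h2.classInner_of_ne C.irr h4] at a1
  rw [C.irr.classInner_self] at a2
  rw [isIrrCharacter_one.classInner_of_ne C.irr C.ne.symm] at a3
  simp only [h5, sub_mul, mul_assoc, Finset.sum_sub_distrib, ← Finset.mul_sum, ← a1, ← a2,
    ← a3, mul_sub] at h6
  have hi : (P.index : ℂ) ≠ 0 := Nat.cast_ne_zero.2 index_ne_zero_of_finite
  rw [← P.index_mul_card] at h6
  push_cast at h6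
  refine mul_left_cancel₀ hi ?_
  simp only [ExcData.ph, Pi.sub_apply, MonoidHom.comp_id] at h6
  linear_combination -h6

theorem val_sing (C : Ch P χ δ) (S : Su P p b) {g : G} (hg : p ∣ orderOf g) : χ g = δ := by
  obtain ⟨h, h1, h2⟩ := S.sing hg
  rw [← C.irr.isClassFunction g h, C.val_P S h1 h2]

theorem ind' (C : Ch P χ δ) (S : Su P p b) {ν : P →* ℂˣ} (hν : ν ≠ 1) :
    ∃ θ, IsIrrCharacter G θ ∧ (∀ g, ¬ p ∣ orderOf g → θ g = χ g + δ) ∧
    ∀ g, indFun P (ExcData.ph (MonoidHom.id P) ν) g = δ * (θ g - χ g) - 1 := by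
  obtain ⟨θ, h2, -, -, h5⟩ := C.ind ν hν
  refine ⟨θ, h2, fun g hg => ?_, h5⟩
  have := h5 g
  rw [indFun_eq_zero P _ fun x hx => ExcData.ph_eq_zero ν
    (Subtype.ext (by simp [S.reg hg x hx]))] at this
  linear_combination -δ * this - (θ g - χ g) * C.sq

theorem pair (C : Ch P χ δ) (S : Su P p b) {u v c : G} (hu : ¬ p ∣ orderOf u)
    (hv : ¬ p ∣ orderOf v) (hc : c ∈ P) (h1 : c ≠ 1) :
    Nat.card G * (χ 1 * (χ 1 + δ)) * pc u v c = (centralizer ({u} : Set G)).index *
      (centralizer ({v} : Set G)).index * ((χ 1 - χ u) * (χ 1 - χ v)) := by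
  have := Fintype.ofFinite P
  have hp1 : ¬ p ∣ orderOf (1 : G) := by simpa using S.pp.one_lt.ne'
  have hx := C.irr.apply_one_ne_zero
  have hy : χ 1 + δ ≠ 0 := by
    obtain ⟨ν, hν⟩ := S.exists_nu
    obtain ⟨θ, h2, h3, -⟩ := C.ind' S hν
    rw [← h3 1 hp1]
    exact h2.apply_one_ne_zero
  have h := fourier S.comm (f := fun n : P => (pc u v n : ℂ))
    (E := (centralizer ({u} : Set G)).index * (centralizer ({v} : Set G)).index *
      ((χ 1 - χ u) * (χ 1 - χ v)) / (Nat.card G * (χ 1 * (χ 1 + δ)))) (fun ν hν => ?_)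
    (m := ⟨c, hc⟩) (fun e => h1 (congrArg Subtype.val e))
  · rw [eq_div_iff (by simp [hx, hy])] at h
    linear_combination h
  obtain ⟨θ, h2, h3, h5⟩ := C.ind' S hν
  have h6 := sum_indFun_mul P (ExcData.ph (MonoidHom.id P) ν) (pc_cls u v)
  have a1 := sum_mul_pc h2 u v
  have a2 := sum_mul_pc C.irr u v
  have a3 := sum_mul_pc isIrrCharacter_one u v
  simp only [h5, sub_mul, mul_assoc, Finset.sum_sub_distrib, ← Finset.mul_sum, a1, a2,
    a3, mul_sub] at h6
  have hi : (P.index : ℂ) ≠ 0 := Nat.cast_ne_zero.2 index_ne_zero_of_finite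
  have hP := natCard_cast_ne_zero P
  refine mul_left_cancel₀ hi ?_
  simp only [ExcData.ph, Pi.sub_apply, MonoidHom.comp_id] at h6
  rw [← h6, h3 u hu, h3 v hv, h3 1 hp1, ← P.index_mul_card]
  push_cast
  field_simp
  rcases C.sgn with rfl | rfl <;> push_cast <;> ring

end Ch

open Classical in
/-- The numerical data: `x`, `y` are the degrees, `s g = x - χ g`. -/
structure Dat (G : Type*) [Group G] [Fintype G] (p x y R : ℕ) (s : G → ℕ) : Prop where
  pp : p.Prime
  xy : y = x + 1 ∨ x = y + 1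
  pos : 0 < x ∧ 0 < y
  dvd : p ∣ 2 * x - y
  card : Nat.card G = R ^ 2 * p * x * y
  md : R ^ 2 % p = 1
  cent : ∀ u, u ≠ 1 → ¬ p ∣ orderOf u →
    ∃ a, 0 < a ∧ a * Nat.card (centralizer ({u} : Set G)) = R * s u
  ncent : ∀ u, u ≠ 1 → ¬ p ∣ orderOf u → ¬ p ∣ Nat.card (centralizer ({u} : Set G))
  le : ∀ u, s u ≤ 2 * x
  inv : ∀ t, orderOf t = 2 → Nat.card (centralizer ({t} : Set G)) = R * s t
  cnj : ∀ t t' : G, orderOf t = 2 → orderOf t' = 2 → IsConj t t'
  cls : ∀ u g, s (g * u * g⁻¹) = s u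
  pow : ∀ u m, m.Coprime (orderOf u) → s (u ^ m) = s u
  one : s 1 = 0
  sub : ∀ (H : Subgroup G) [Fintype H], ¬ p ∣ Nat.card H → ∃ m n, ∑ h : H, s h + m * Nat.card H =
    Nat.card H * x ∧ ∑ h : H, s h + n * Nat.card H = Nat.card H * y
  m1 : ∑ g with ¬ p ∣ orderOf g, ((y : ℤ) - s g) = (y - x) * (R ^ 2 * x * y)
  m2 : ∑ g with ¬ p ∣ orderOf g, ((x : ℤ) - s g) * (y - s g) = R ^ 2 * x * y

theorem Su.exists_dat [IsSimpleGroup G] (S : Su P p b) : ∃ x y R s, Dat G p x y R s := by
  classical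
  obtain ⟨χ, δ, C⟩ := S.exists_ch
  obtain ⟨c, hc, hc1⟩ := S.exists_mem
  obtain ⟨ν, hν⟩ := S.exists_nu
  obtain ⟨θ, hθ, hθχ, -⟩ := C.ind' S hν
  obtain ⟨x, x0, hx⟩ := C.irr.exists_nat_degree_pos
  obtain ⟨y, y0, hy⟩ := hθ.exists_nat_degree_pos
  have pp := S.pp
  have hp1 : ¬ p ∣ orderOf (1 : G) := by simpa using pp.one_lt.ne'
  have hp2 : ∀ {t : G}, orderOf t = 2 → ¬ p ∣ orderOf t := fun h => h ▸ S.not_dvd_two
  have hyx : (y : ℤ) = x + δ := by
    have := hθχ 1 hp1
    rw [hx, hy] at this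
    exact_mod_cast this
  have hyx' : χ 1 + δ = y := by rw [hx]; exact_mod_cast hyx.symm
  have gen := C.irr.isGeneralizedCharacter
  have faith : ∀ {u : G}, u ≠ 1 → χ 1 - χ u ≠ 0 := fun hu h =>
    hu (C.irr.eq_one_of_apply_eq_of_isSimpleGroup C.ne (sub_eq_zero.1 h).symm)
  have b1 : b ≠ 1 := fun h => S.notMem (h ▸ P.one_mem)
  have hi : ∀ u : G, ((centralizer ({u} : Set G)).index : ℂ) ≠ 0 := fun u =>
    Nat.cast_ne_zero.2 index_ne_zero_of_finite
  have hint : ∀ g, ∃ n : ℤ, χ g = n := by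
    intro g
    by_cases hg : p ∣ orderOf g
    · exact ⟨δ, C.val_sing S hg⟩
    obtain ⟨k, hk⟩ := gen.exists_int_of_isConj_pow (g := b) fun m hm => by
      rw [S.ord_b, Nat.coprime_two_right] at hm
      obtain ⟨j, rfl⟩ := hm
      rw [pow_succ, pow_mul, pow_two, S.sq, one_pow, one_mul]
    have h := C.pair S hg (hp2 S.ord_b) hc hc1
    have h1 := faith b1
    rw [hyx', hx, hk] at *
    refine gen.exists_int_of_rat (q := x - Nat.card G * (x * y) * pc g b c /
      ((centralizer ({g} : Set G)).index * (centralizer ({b} : Set G)).index * (x - k))) ?_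
    push_cast
    rw [h]
    have := hi g
    have := hi b
    field_simp
    ring
  obtain ⟨s, hs⟩ : ∃ s : G → ℕ, ∀ g, χ g = x - s g := by
    choose n hn using hint
    refine ⟨fun g => (x - n g).toNat, fun g => ?_⟩
    have h1 := C.irr.isCharacter.re_le_re g
    rw [hn, hx] at h1
    have h2 : n g ≤ x := by exact_mod_cast h1
    have h3 : (((x - n g).toNat : ℤ) : ℂ) = x - n g := by
      rw [Int.toNat_of_nonneg (by omega)]; push_cast; rfl
    rw [hn, ← Int.cast_natCast (x - n g).toNat, h3]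
    ring
  have spos : ∀ {u : G}, u ≠ 1 → 0 < s u := fun {u} hu => Nat.pos_of_ne_zero fun h =>
    faith hu (by rw [hs u, hx, h]; simp)
  have scls : ∀ u g, s (g * u * g⁻¹) = s u := fun u g => by
    have := C.irr.isClassFunction u g
    rw [hs, hs, sub_right_inj] at this
    exact_mod_cast this
  have pairN : ∀ {u v : G}, ¬ p ∣ orderOf u → ¬ p ∣ orderOf v → x * y * pc u v c *
      (Nat.card (centralizer ({u} : Set G)) * Nat.card (centralizer ({v} : Set G))) =
      Nat.card G * (s u * s v) := by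
    intro u v hu hv
    have h := C.pair S hu hv hc hc1
    rw [hyx', hx, hs u, hs v, sub_sub_cancel, sub_sub_cancel] at h
    have h1 : Nat.card G * (x * y) * pc u v c = (centralizer ({u} : Set G)).index *
      (centralizer ({v} : Set G)).index * (s u * s v) := by exact_mod_cast h
    refine Nat.eq_of_mul_eq_mul_left (Nat.card_pos (α := G)) ?_
    calc _ = Nat.card G * (x * y) * pc u v c * (Nat.card (centralizer ({u} : Set G)) *
          Nat.card (centralizer ({v} : Set G))) := by ring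
      _ = ((centralizer ({u} : Set G)).index * Nat.card (centralizer ({u} : Set G))) *
          ((centralizer ({v} : Set G)).index * Nat.card (centralizer ({v} : Set G))) *
          (s u * s v) := by rw [h1]; ring
      _ = _ := by rw [index_mul_card, index_mul_card]; ring
  have hconj : ∀ t, orderOf t = 2 → IsConj b t := fun t ht => by
    refine S.isConj_of_pc hc hc1 ht fun h => ?_
    have h1 := pairN (hp2 ht) (hp2 ht)
    have := spos (u := t) (by rintro rfl; simp at ht)
    have := Nat.card_pos (α := G)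
    rw [h, mul_zero, zero_mul] at h1
    exact absurd h1.symm (by positivity)
  have hxy : y = x + 1 ∨ x = y + 1 := by rcases C.sgn with rfl | rfl <;> omega
  have hdv : (p : ℤ) ∣ x - δ := by
    have := Fintype.ofFinite P
    obtain ⟨m, hm⟩ := exists_nat_sum C.irr.isCharacter P
    rw [← Finset.add_sum_erase _ _ (Finset.mem_univ 1), Finset.sum_congr rfl
      (fun n hn => C.val_P S n.2 fun e => Finset.ne_of_mem_erase hn (Subtype.ext e)),
      Finset.sum_const, Finset.card_erase_of_mem (Finset.mem_univ _), Finset.card_univ,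
      ← Nat.card_eq_fintype_card, S.card, OneMemClass.coe_one, hx, nsmul_eq_mul,
      Nat.cast_sub pp.one_le] at hm
    have h1 : (x : ℤ) + (p - 1) * δ = m * p := by exact_mod_cast hm
    exact ⟨m - δ, by linear_combination h1⟩
  have hdv2 : (p : ℤ) ∣ x * y - 2 := by
    obtain ⟨j, hj⟩ := hdv
    refine ⟨j * (p * j + 3 * δ), ?_⟩
    rw [hyx, show (x : ℤ) = p * j + δ by omega]
    rcases C.sgn with rfl | rfl <;> ring
  have hpxy : p.Coprime (x * y) := (Nat.Prime.coprime_iff_not_dvd pp).2 fun h => by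
    have : (p : ℤ) ∣ x * y := by exact_mod_cast h
    exact S.not_dvd_two (by exact_mod_cast (dvd_sub_right this).1 hdv2)
  obtain ⟨n, hn, hn1⟩ := S.idx
  obtain ⟨M, hM⟩ : p * (x * y) ∣ Nat.card G := hpxy.mul_dvd_of_dvd_of_dvd
    ⟨2 * n, by rw [hn]; ring⟩ (Nat.Coprime.mul_dvd_of_dvd_of_dvd
      (by rcases hxy with rfl | rfl <;> simp) (irr_degree_dvd_card C.irr hx)
      (irr_degree_dvd_card hθ hy))
  have hbb := pairN (hp2 S.ord_b) (hp2 S.ord_b)
  rw [S.pc_b hc hc1, hM] at hbb
  have h2 : Nat.card (centralizer ({b} : Set G)) ^ 2 = M * s b ^ 2 :=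
    Nat.eq_of_mul_eq_mul_left (Nat.mul_pos pp.pos (Nat.mul_pos x0 y0)) (by linear_combination hbb)
  obtain ⟨R, hR⟩ : s b ∣ Nat.card (centralizer ({b} : Set G)) :=
    (Nat.pow_dvd_pow_iff two_ne_zero).1 ⟨M, by rw [h2, mul_comm]⟩
  have k0 := spos b1
  obtain rfl : M = R ^ 2 :=
    Nat.eq_of_mul_eq_mul_right (pow_pos k0 2) (by rw [← h2, hR]; ring)
  have R0 : 0 < R := Nat.pos_of_ne_zero (by
    rintro rfl
    exact Nat.card_pos.ne' hR)
  have hI : (P.index : ℂ) = R ^ 2 * x * y := by
    have := P.index_mul_card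
    rw [S.card, hM] at this
    have h3 : P.index = R ^ 2 * x * y :=
      Nat.eq_of_mul_eq_mul_right pp.pos (by linear_combination this)
    exact_mod_cast h3
  have hZ := S.sum_sing
  have hG : (Nat.card G : ℂ) = p * (R ^ 2 * x * y) := by rw [hM]; push_cast; ring
  have hsplit : ∀ f : G → ℂ, ∀ a : ℂ, (∀ g, p ∣ orderOf g → f g = a) →
      ∑ g with ¬ p ∣ orderOf g, f g = ∑ g, f g -
        (Finset.univ.filter fun g : G => p ∣ orderOf g).card * a := by
    intro f a h
    rw [← Finset.sum_filter_add_sum_filter_not Finset.univ (fun g : G => p ∣ orderOf g),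
      Finset.sum_congr rfl fun g hg => h g (Finset.mem_filter.1 hg).2]
    simp
  have hyx2 : (y : ℂ) = x + δ := by exact_mod_cast hyx
  have hs0 := C.irr.sum_eq_zero C.ne
  refine ⟨x, y, R, s, pp, hxy, ⟨x0, y0⟩, ?_, by rw [hM]; ring, ?_, fun u u1 hu => ?_,
    fun u u1 hu => S.not_dvd_cent hu u1, fun u => ?_, fun t ht => ?_, fun t t' ht ht' => (hconj t ht).symm.trans (hconj t' ht'), scls,
    fun u m hm => ?_, ?_, fun H _ hH => ?_, ?_, ?_⟩
  · have : ((2 * x - y : ℕ) : ℤ) = x - δ := by omega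
    exact_mod_cast this ▸ hdv
  · have h3 : R ^ 2 * (x * y) = 2 * n :=
      Nat.eq_of_mul_eq_mul_left pp.pos (by linear_combination hn - hM)
    have h4 : (p : ℤ) ∣ n - 1 := (Nat.modEq_iff_dvd.1 (show 1 ≡ n [MOD p] by
      rw [Nat.ModEq, hn1, Nat.mod_eq_of_lt pp.one_lt]))
    have h5 : (p : ℤ) ∣ 2 * (R ^ 2 - 1) := by
      have h6 : (R : ℤ) ^ 2 * (x * y) = 2 * n := by exact_mod_cast h3
      have := (h4.mul_left 2).sub (hdv2.mul_left (R ^ 2))
      rwa [show 2 * ((R : ℤ) ^ 2 - 1) = 2 * (n - 1) - R ^ 2 * (x * y - 2) by linear_combination h6]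
    have h7 := ((Nat.prime_iff_prime_int.1 pp).dvd_or_dvd h5).resolve_left
      (by exact_mod_cast S.not_dvd_two)
    have h8 : 1 ≡ R ^ 2 [MOD p] := Nat.modEq_iff_dvd.2 (by exact_mod_cast h7)
    rw [← h8, Nat.mod_eq_of_lt pp.one_lt]
  · obtain ⟨a, ha⟩ := S.dvd_pc (v := b) hu u1 hc hc1
    have h3 := pairN hu (hp2 S.ord_b)
    rw [ha, hR, hM] at h3
    have h4 : a * Nat.card (centralizer ({u} : Set G)) = R * s u :=
      Nat.eq_of_mul_eq_mul_left (show 0 < p * (x * y) * R * s b by have := pp.pos; positivity)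
        (by linear_combination h3)
    refine ⟨a, Nat.pos_of_ne_zero ?_, h4⟩
    rintro rfl
    have := spos u1
    exact absurd h4.symm (by rw [zero_mul]; positivity)
  · have h3 := (Complex.abs_re_le_norm _).trans (C.irr.isCharacter.norm_le_re u)
    rw [hs, hx] at h3
    have h4 : (s u : ℝ) ≤ 2 * x := by
      have := (abs_le.1 h3).1
      simp at this
      linarith
    exact_mod_cast h4
  · obtain ⟨g, rfl⟩ := isConj_iff.1 (hconj t ht)
    rw [scls, mul_comm R, ← hR]
    refine Nat.eq_of_mul_eq_mul_left (Nat.pos_of_ne_zero (index_ne_zero_of_finite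
      (H := centralizer ({b} : Set G)))) ?_
    rw [index_mul_card, ← card_isConj_eq_index, ← index_mul_card (centralizer {g * b * g⁻¹}),
      ← card_isConj_eq_index]
    congr 1
    exact Nat.card_congr (Equiv.subtypeEquivRight fun z =>
      ⟨fun h => (hconj _ ht).symm.trans h, fun h => (hconj _ ht).trans h⟩)
  · have := (gen.exists_int_iff u).1 (hint u) m hm
    rw [hs, hs, sub_right_inj] at this
    exact_mod_cast this
  · have := hs 1
    rw [hx, eq_comm, sub_eq_self] at this
    exact_mod_cast this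
  · obtain ⟨m, hm⟩ := exists_nat_sum C.irr.isCharacter H
    obtain ⟨m', hm'⟩ := exists_nat_sum hθ.isCharacter H
    rw [Finset.sum_congr rfl fun (h : H) _ => hθχ h fun e =>
      hH (e.trans (H.orderOf_dvd_natCard h.2))] at hm'
    simp only [hs, Finset.sum_add_distrib, Finset.sum_sub_distrib, Finset.sum_const,
      Finset.card_univ, ← Nat.card_eq_fintype_card, nsmul_eq_mul] at hm hm'
    refine ⟨m, m', ?_, ?_⟩ <;> apply Nat.cast_injective (R := ℂ) <;> push_cast
    · linear_combination -hm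
    · linear_combination -hm' - Nat.card H * hyx2
  · apply Int.cast_injective (α := ℂ)
    push_cast
    have h3 := hsplit (fun g => χ g + δ) (2 * δ) fun g hg => by rw [C.val_sing S hg]; ring
    rw [Finset.sum_add_distrib (s := Finset.univ), hs0] at h3
    simp only [hs, Finset.sum_const, Finset.card_univ, ← Nat.card_eq_fintype_card,
      nsmul_eq_mul] at h3
    rw [Finset.sum_congr rfl fun g _ => show (y : ℂ) - s g = x - s g + δ by rw [hyx2]; ring, h3]
    linear_combination δ * hG - δ * hZ - δ * (p - 1) * hI - R ^ 2 * x * y * hyx2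
  · apply Int.cast_injective (α := ℂ)
    push_cast
    have h3 := hsplit (fun g => χ g * conj (χ g) + δ * χ g) 2 fun g hg => by
      rw [C.val_sing S hg, map_intCast, C.sq]; norm_num
    rw [Finset.sum_add_distrib (s := Finset.univ), ← Finset.mul_sum, hs0, ← card_mul_classInner,
      C.irr.classInner_self] at h3
    simp only [hs, map_sub, map_natCast] at h3
    rw [Finset.sum_congr rfl fun g _ => show ((x : ℂ) - s g) * (y - s g) =
      (x - s g) * (x - s g) + δ * (x - s g) by rw [hyx2]; ring, h3]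
    linear_combination hG - hZ - (p - 1) * hI

end Cfsg.Lib.Alex
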