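import Cfsg.Agent.Alex.Grp

/-!
# Elimination of the parameters with an elementary subgroup of order eight
-/

set_option autoImplicit false

namespace Cfsg.Lib.Alex

open Cfsg Subgroup Cfsg.Lib.Char Finset

variable {G : Type*} [Group G] [Fintype G] {p x y R : ℕ} {s : G → ℕ}

theorem mod_arg {n B M i j : ℕ} {T e : ℕ → ℕ} (hB : ∑ k ∈ range n, T k = B) (he : ∀ k, e k ∣ T k)
    (hij : i ≠ j) (h : ∀ k < n, k ≠ i → k ≠ j → M ∣ e k ∨ B < e k) :
    ∃ a b c, B = e i * a + e j * b + M * c := by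
  have h1 : ∀ k, ∃ a, (∑ l ∈ range n with l = k, T l) = e k * a := fun k =>
    dvd_sum fun l hl => (mem_filter.1 hl).2 ▸ he l
  obtain ⟨a, ha⟩ := h1 i
  obtain ⟨b, hb⟩ := h1 j
  obtain ⟨c, hc⟩ : M ∣ ∑ l ∈ range n with l ≠ i ∧ l ≠ j, T l := dvd_sum fun l hl => by
    obtain ⟨h2, h3, h4⟩ := mem_filter.1 hl
    rcases h l (mem_range.1 h2) h3 h4 with h5 | h5
    · exact h5.trans (he l)
    · rw [Nat.eq_zero_of_dvd_of_lt (he l) ((hB ▸ single_le_sum (fun _ _ => Nat.zero_le _)
        h2).trans_lt h5)]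
      exact dvd_zero M
  refine ⟨a, b, c, ?_⟩
  rw [← ha, ← hb, ← hc, ← hB]
  simp only [sum_filter, ← sum_add_distrib]
  refine sum_congr rfl fun l _ => ?_
  by_cases h2 : l = i <;> by_cases h3 : l = j <;> simp_all

/-- The unit of contribution of the value `j`. -/
def un (p x y R j : ℕ) : ℕ :=
  if j = 0 then 0 else p * (R * x * y / (R * x * y).gcd j) * wt x y j

namespace Dat

theorem exact_budget (D : Dat G p x y R s) {M i j : ℕ} (hij : i ≠ j)
    (h : ∀ k < 2 * x + 1, k ≠ i → k ≠ j → M ∣ un p x y R k ∨ (R ^ 2 - 1) * x * y < un p x y R k) :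
    ∃ a b c, (R ^ 2 - 1) * x * y = un p x y R i * a + un p x y R j * b + M * c := by
  classical
  refine mod_arg (T := fun k => ((RS G p).filter fun g => s g = k).card * wt x y k) ?_
    (fun k => ?_) hij h
  · rw [← D.tot_wt, ← sum_fiberwise_of_maps_to (t := range (2 * x + 1)) (g := s)
      fun g _ => mem_range.2 (Nat.lt_succ_of_le (D.le g))]
    refine sum_congr rfl fun k _ => ?_
    rw [sum_congr rfl fun g hg => by rw [(mem_filter.1 hg).2], sum_const, smul_eq_mul]
  unfold un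
  split_ifs with hk
  · rw [hk, filter_eq_empty_iff.2 fun g hg => (D.spos hg).ne']
    simp
  refine Nat.mul_dvd_mul_right ?_ _
  rw [← Set.ncard_coe_finset]
  refine dvd_ncard_conj ⊤ (fun g _ u hu => ?_) fun u hu' => ?_
  · simpa [mem_RS, orderOf_conj', D.cls] using hu
  obtain ⟨hu, rfl⟩ := mem_filter.1 (mem_coe.1 hu')
  obtain ⟨a, -, -, h2⟩ := D.cl_eq hu
  rw [relIndex_top_right]
  obtain ⟨c, hc⟩ : p ∣ (centralizer ({u} : Set G)).index := (D.pp.dvd_mul.1 ⟨R ^ 2 * x * y, by
    rw [index_mul_card, D.card]; ring⟩).resolve_right (D.ncent u (mem_RS.1 hu).2 (mem_RS.1 hu).1)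
  rw [hc, mul_assoc, mul_assoc p, Nat.mul_right_inj D.pp.ne_zero] at h2
  rw [hc]
  refine Nat.mul_dvd_mul_left _ ?_
  have g0 := Nat.gcd_pos_of_pos_right (R * x * y) (D.spos hu)
  refine (Nat.coprime_div_gcd_div_gcd g0).dvd_of_dvd_mul_right ⟨a, ?_⟩
  rw [← Nat.mul_div_assoc _ (Nat.gcd_dvd_right _ _), h2, mul_comm _ a, mul_comm _ a,
    Nat.mul_div_assoc _ (Nat.gcd_dvd_left _ _)]

theorem elim_9 (D : Dat G 5 49 48 9 s) : False := by
  obtain ⟨a, b, c, h⟩ := D.exact_budget (M := 27) (i := 45) (j := 54) (by decide)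
    (by decide +kernel)
  rw [show un 5 49 48 9 45 = 141120 by decide +kernel,
    show un 5 49 48 9 54 = 58800 by decide +kernel] at h
  have : a ≤ 1 := by omega
  have : b ≤ 3 := by omega
  interval_cases a <;> interval_cases b <;> omega

theorem elim_25 (D : Dat G 13 64 63 25 s) : False := by
  obtain ⟨a, b, c, h⟩ := D.exact_budget (M := 5) (i := 75) (j := 64) (by decide)
    (by decide +kernel)
  rw [show un 13 64 63 25 75 = 2306304 by decide +kernel,
    show un 13 64 63 25 64 = 0 by decide +kernel] at h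
  omega

theorem elim_105 (D : Dat G 13 64 63 105 s) : False := by
  obtain ⟨a, b, c, h⟩ := D.exact_budget (M := 49) (i := 49) (j := 64) (by decide)
    (by decide +kernel)
  rw [show un 13 64 63 105 49 = 23587200 by decide +kernel,
    show un 13 64 63 105 64 = 0 by decide +kernel] at h
  omega

theorem one_cases (D : Dat G p x y 1 s) {u : G} (hu : u ∈ RS G p) : s u = x ∨ s u = y := by
  have h := D.tot_wt
  rw [one_pow, Nat.sub_self, zero_mul, zero_mul, sum_eq_zero_iff] at h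
  have h1 := wt_cast D.xy (s u)
  rw [h u hu, Nat.cast_zero, eq_comm, mul_eq_zero] at h1
  omega

theorem one_count (D : Dat G p x y 1 s) :
    ∑ g ∈ RS G p, (if s g = x then 1 else 0) + 1 = x * x := by
  have h := D.m1
  have hxy := D.xy
  rw [D.filter_eq, sum_cons, D.one, sum_congr rfl
    (g := fun g => ((y : ℤ) - x) * ((if s g = x then 1 else 0 : ℕ) : ℤ)) fun g hg => by
      rcases D.one_cases hg with h1 | h1
      · simp [h1]
      · rw [if_neg (by omega), h1]; simp, ← mul_sum, ← Nat.cast_sum] at h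
  generalize ∑ g ∈ RS G p, (if s g = x then 1 else 0) = Z at h ⊢
  apply Nat.cast_injective (R := ℤ)
  rcases hxy with rfl | rfl <;> push_cast at h ⊢
  · linear_combination h
  · linear_combination -h

theorem one_cl (D : Dat G p x y 1 s) {r : ℕ} (hy : ¬ r ∣ y) {u : G} (hu : u ∈ RS G p)
    (hr : r ∣ Nat.card (centralizer ({u} : Set G))) :
    s u = x ∧ ∃ a, 0 < a ∧ a * Nat.card (centralizer ({u} : Set G)) = x ∧
      p * y * a ≤ W p s (fun j => if j = x then 1 else 0) (orderOf u) := by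
  obtain ⟨a, h1, h2, h3⟩ := D.cl_eq hu
  rw [one_mul] at h2 h3
  have h4 := (D.one_cases hu).resolve_right fun h => hy (h ▸ h2 ▸ hr.mul_left a)
  have h5 := D.W_ge (fun j => if j = x then 1 else 0) hu
  rw [h4] at h2 h3
  rw [if_pos h4, mul_one, Nat.eq_of_mul_eq_mul_right D.pos.1
    (show (centralizer ({u} : Set G)).index * x = p * y * a * x by linear_combination h3)] at h5
  exact ⟨h4, a, h1, h2, h5⟩

omit [Fintype G] in
theorem ord_dvd (u : G) : orderOf u ∣ Nat.card (centralizer ({u} : Set G)) :=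
  Subgroup.orderOf_dvd_natCard _ (mem_centralizer_singleton_iff.2 rfl)

theorem elim_inv (D : Dat G p x y 1 s) (h5 : 5 ≤ p) {t : G} (ht : orderOf t = 2) {r : ℕ}
    (hr : r.Prime) (h2 : 2 ≠ r) (hp : r ≠ p) (hx : r ∣ x) (hy : ¬ r ∣ y) (hy2 : ¬ 2 ∣ y)
    (he : p * y + 1 = x * x) : False := by
  obtain ⟨u, hu, ho, -⟩ := D.central hr ((hx.mul_left 1).mul_right y) hp
  obtain ⟨-, a, a0, -, ha⟩ := D.one_cl hy hu (ho ▸ ord_dvd u)
  obtain ⟨-, b, b0, -, hb⟩ := D.one_cl hy2 (two_mem h5 ht) (ht ▸ ord_dvd t)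
  have h := W_sum (p := p) (s := s) (fun j => if j = x then 1 else 0) {2, r}
  have h1 := D.one_count
  rw [sum_pair h2] at h
  rw [ho] at ha
  rw [ht] at hb
  have := Nat.mul_pos D.pp.pos D.pos.2
  have := Nat.le_mul_of_pos_right (p * y) a0
  have := Nat.le_mul_of_pos_right (p * y) b0
  omega

theorem elim_225 (D : Dat G 113 225 224 1 s) : False := by
  have h1 := D.one_count
  obtain ⟨u, hu, ho, -⟩ := D.central Nat.prime_three (by decide) (by decide)
  obtain ⟨-, a, a0, a1, ha⟩ := D.one_cl (r := 3) (by decide) hu (ho ▸ ord_dvd u)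
  have h := W_sum (p := 113) (s := s) (fun j => if j = 225 then 1 else 0) {3, 5, 15}
  rw [sum_insert (by decide), sum_pair (by decide)] at h
  rw [ho] at ha
  have : Fact (Nat.Prime 5) := ⟨Nat.prime_five⟩
  obtain ⟨w, hw⟩ := exists_prime_orderOf_dvd_card' (G := centralizer ({u} : Set G)) 5 (by
    have : a ≤ 2 := by omega
    interval_cases a <;> omega)
  rw [← Subgroup.orderOf_coe] at hw
  have hc : Commute u w := (mem_centralizer_singleton_iff.1 w.2).symm
  have h15 := hc.orderOf_mul_eq_mul_orderOf_of_coprime (by rw [ho, hw]; decide)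
  rw [ho, hw, show 3 * 5 = 15 from rfl] at h15
  obtain ⟨-, b, b0, -, hb⟩ := D.one_cl (r := 5) (by decide) (u := w)
    (mem_RS.2 ⟨by rw [hw]; decide, fun e => by simp [e] at hw⟩) (hw ▸ ord_dvd _)
  obtain ⟨-, c, c0, -, hc⟩ := D.one_cl (r := 15) (by decide) (u := u * w)
    (mem_RS.2 ⟨by rw [h15]; decide, fun e => by simp [e] at h15⟩) (h15 ▸ ord_dvd _)
  rw [hw] at hb
  rw [h15] at hc
  omega

theorem elim_ti (D : Dat G p x y 1 s) {r e : ℕ} (hr : r.Prime) (hp : r ≠ p) (hx : x = r ^ e)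
    (hy : ¬ r ∣ y) (h4 : x % 4 = 1) (h1 : 1 < x)
    (he : e = 2 ∨ e = 4 ∧ 2 * (p * y) + 1 = x * x ∧ (r ^ 3 - 1).gcd (p * y) < r) {A : Subgroup G}
    (hA : 8 ∣ Nat.card A) (hA2 : ∀ a ∈ A, a ^ 2 = 1) : False := by
  classical
  have := Fact.mk hr
  have hG : Nat.card G = p * y * x := by rw [D.card]; ring
  have hS : ∀ S : Sylow r G, Nat.card S = x := by
    intro S
    refine Nat.dvd_antisymm ?_ (hx ▸ S.pow_dvd_card_of_pow_dvd_card (hG ▸ hx ▸ Dvd.intro_left _ rfl))
    obtain ⟨j, hj⟩ := IsPGroup.iff_card.1 S.isPGroup'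
    refine Nat.Coprime.dvd_of_dvd_mul_left (hj ▸ Nat.Coprime.pow_left j
      ((Nat.Prime.coprime_iff_not_dvd hr).2 fun h => ?_)) (hG ▸ card_subgroup_dvd_card _)
    exact (hr.dvd_mul.1 h).elim (fun h => hp ((Nat.prime_dvd_prime_iff_eq hr D.pp).1 h)) hy
  have hu : ∀ S : Sylow r G, ∀ u ∈ S, u ≠ 1 → u ∈ RS G p ∧ r ∣ orderOf u := by
    intro S u hu u1
    obtain ⟨j, -, hj⟩ := (Nat.dvd_prime_pow hr).1
      (hx ▸ hS S ▸ (S : Subgroup G).orderOf_dvd_natCard hu)
    refine ⟨mem_RS.2 ⟨fun h => hp ((Nat.prime_dvd_prime_iff_eq D.pp hr).1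
      (D.pp.dvd_of_dvd_pow (hj ▸ h))).symm, u1⟩, hj ▸ dvd_pow_self r ?_⟩
    rintro rfl
    exact u1 (by simpa using hj)
  have hc := D.one_count
  refine ti_false h4 h1 hS (fun S u h u1 => ?_) ?_ hA hA2
  · obtain ⟨-, a, a0, a1, -⟩ := D.one_cl hy (hu S u h u1).1 ((hu S u h u1).2.trans (ord_dvd u))
    refine (eq_of_le_of_card_ge (le_trans ?_ (centralizer_le (Set.singleton_subset_iff.2 h)))
      (hS S ▸ a1 ▸ Nat.le_mul_of_pos_left _ a0)).symm
    rcases he with rfl | ⟨rfl, h2, h3⟩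
    · exact le_centralizer_iff_isMulCommutative.2
        (IsPGroup.isMulCommutative_of_card_eq_prime_sq (p := r) (hx ▸ hS S))
    refine le_centralizer_of_cent hr (hx ▸ hS S) (fun v hv v1 => ?_) fun m m1 m2 => ?_
    · obtain ⟨-, b, b0, b1, b2⟩ := D.one_cl hy (hu S v hv v1).1
        ((hu S v hv v1).2.trans (ord_dvd v))
      have h5 := W_sum (p := p) (s := s) (fun j => if j = x then 1 else 0) {orderOf v}
      rw [sum_singleton] at h5
      have h6 : b ≤ 2 := Nat.le_of_mul_le_mul_left (by omega) (Nat.mul_pos D.pp.pos D.pos.2)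
      interval_cases b <;> omega
    · rw [hG, ← hx, Nat.mul_dvd_mul_iff_right D.pos.1] at m2
      exact (Nat.le_of_dvd (Nat.gcd_pos_of_pos_right _ (Nat.mul_pos D.pp.pos D.pos.2))
        (Nat.dvd_gcd m1 m2)).trans_lt h3
  · rw [← hc, ← card_filter, ← Set.ncard_coe_finset]
    congr 2
    ext u
    simp only [Set.mem_ofPred_eq, coe_filter]
    refine ⟨fun ⟨u1, S, h⟩ => ⟨(hu S u h u1).1, (D.one_cl hy (hu S u h u1).1
      ((hu S u h u1).2.trans (ord_dvd u))).1⟩, fun ⟨h2, h3⟩ => ⟨(mem_RS.1 h2).2, ?_⟩⟩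
    obtain ⟨a, -, a1, -⟩ := D.cl_eq h2
    rw [one_mul, h3, hx] at a1
    obtain ⟨j, -, hj⟩ := (Nat.dvd_prime_pow hr).1 (Dvd.intro_left a a1)
    obtain ⟨S, hS⟩ := (IsPGroup.of_card hj).exists_le_sylow
    exact ⟨S, hS (mem_centralizer_singleton_iff.2 rfl)⟩

/-- With an elementary subgroup of order eight, the involution centralizers are `2`-groups. -/
theorem cit (D : Dat G p x y R s) {t : G} (ht : orderOf t = 2) {A : Subgroup G}
    (hA : 8 ∣ Nat.card A) (hA2 : ∀ a ∈ A, a ^ 2 = 1) (h : (x, y, p, R, s t) ∈ eightL) (u : G)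
    (hu : orderOf u = 2) : IsPGroup 2 (centralizer ({u} : Set G)) := by
  have hc := D.inv u hu
  rw [D.s_inv ht hu] at hc
  simp only [eightL, List.mem_cons, Prod.mk.injEq, List.not_mem_nil, or_false] at h
  rcases h with h | h | h | h | h | h | h | h | h | h | h | h | h | h | h | h | h | h | h | h <;>
    obtain ⟨rfl, rfl, rfl, rfl, hk⟩ := h <;> rw [hk] at hc
  · exact .of_card (n := 3) hc
  · exact .of_card (n := 3) hc
  · exact .of_card (n := 4) hc
  · exact .of_card (n := 4) hc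
  · exact .of_card (n := 6) hc
  · exact .of_card (n := 6) hc
  · exact .of_card (n := 6) hc
  all_goals exfalso
  · exact D.elim_inv (by decide) ht Nat.prime_three (by decide) (by decide) (by decide)
      (by decide) (by decide) rfl
  · exact D.elim_inv (by decide) ht Nat.prime_three (by decide) (by decide) (by decide)
      (by decide) (by decide) rfl
  · exact D.elim_inv (by decide) ht Nat.prime_five (by decide) (by decide) (by decide)
      (by decide) (by decide) rfl
  · exact D.elim_inv (by decide) ht Nat.prime_seven (by decide) (by decide) (by decide)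
      (by decide) (by decide) rfl
  · exact D.elim_inv (by decide) ht Nat.prime_three (by decide) (by decide) (by decide)
      (by decide) (by decide) rfl
  · exact D.elim_225
  · exact D.elim_ti Nat.prime_five (by decide) (e := 2) rfl (by decide) rfl (by decide)
      (Or.inl rfl) hA hA2
  · exact D.elim_ti Nat.prime_seven (by decide) (e := 2) rfl (by decide) rfl (by decide)
      (Or.inl rfl) hA hA2
  · exact D.elim_ti Nat.prime_three (by decide) (e := 4) rfl (by decide) rfl (by decide)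
      (Or.inr ⟨rfl, rfl, by decide⟩) hA hA2
  · exact D.elim_ti Nat.prime_seven (by decide) (e := 4) rfl (by decide) rfl (by decide)
      (Or.inr ⟨rfl, rfl, by decide⟩) hA hA2
  · exact D.elim_9
  · exact D.elim_25
  · exact D.elim_105

end Dat

end Cfsg.Lib.Alex
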