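import Cfsg.Agent.Cls2.Exc
import Cfsg.Agent.Char.ClassMult
import Cfsg.Agent.Char.Central

/-!
# A self-centralizing subgroup of odd prime order with automizer of order two: characters
-/

set_option autoImplicit false

namespace Cfsg.Lib.Alex

open Cfsg Subgroup Cfsg.Lib.Char Cfsg.Lib.Cls2
open scoped ComplexConjugate

variable {G : Type*} [Group G]

theorem fourier {A : Type*} [Group A] [Fintype A] (hab : ∀ a b : A, a * b = b * a) {f : A → ℂ}
    {E : ℂ} (h : ∀ ν : A →* ℂˣ, ν ≠ 1 → ∑ n, ((ν n : ℂ) - 1) * f n = -(Nat.card A * E)) {m : A}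
    (hm : m ≠ 1) : f m = E := by
  classical
  have := Fintype.ofFinite (A →* ℂˣ)
  have hc : (Fintype.card (A →* ℂˣ) : ℂ) = Nat.card A := by
    rw [← Nat.card_eq_fintype_card, card_monoidHom_units_of_comm hab]
  have h0 := sum_lin_apply hab (inv_ne_one.2 hm)
  have h1 : ∑ ν : A →* ℂˣ, (ν m⁻¹ : ℂ) * ∑ n, ((ν n : ℂ) - 1) * f n = Nat.card A * f m := by
    simp only [Finset.mul_sum]
    rw [Finset.sum_comm, Finset.sum_eq_single m _ (by simp)]
    · simp only [← mul_assoc, mul_sub, mul_one, ← Finset.sum_mul, Finset.sum_sub_distrib, h0,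
        ← Units.val_mul, ← map_mul]
      simp [hc]
    · intro n _ hn
      have := sum_lin_apply hab (y := m⁻¹ * n) (fun e => hn (inv_mul_eq_one.1 e).symm)
      simp only [← mul_assoc, mul_sub, mul_one, ← Finset.sum_mul, Finset.sum_sub_distrib, h0,
        ← Units.val_mul, ← map_mul, this]
      simp
  have h2 : ∑ ν : A →* ℂˣ, (ν m⁻¹ : ℂ) * ∑ n, ((ν n : ℂ) - 1) * f n = Nat.card A * E := by
    rw [← Finset.add_sum_erase _ _ (Finset.mem_univ 1)] at h0 ⊢
    rw [Finset.sum_congr (s₁ := Finset.univ.erase 1) rfl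
      (fun ν hν => by rw [h ν (Finset.ne_of_mem_erase hν)]), ← Finset.sum_mul]
    simp only [MonoidHom.one_apply, Units.val_one, sub_self, zero_mul, Finset.sum_const_zero]
      at h0 ⊢
    linear_combination (-(Nat.card A * E)) * h0
  exact mul_left_cancel₀ (natCard_cast_ne_zero A) (h1.symm.trans h2)

open Classical in
/-- The number of ways to write `c` as a product of conjugates of `u` and `v`. -/
noncomputable def pc [Fintype G] (u v c : G) : ℕ :=
  (Finset.univ.filter fun x => IsConj u x ∧ IsConj v (x⁻¹ * c)).card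

theorem pc_eq [Fintype G] (u v c : G) :
    (pc u v c : ℂ) = ∑ x, classInd u x * classInd v (x⁻¹ * c) := by
  classical
  rw [pc, Finset.card_filter]
  push_cast
  refine Finset.sum_congr rfl fun x _ => ?_
  by_cases h1 : IsConj u x <;> by_cases h2 : IsConj v (x⁻¹ * c) <;> simp only [classInd, h1, h2] <;>
    simp

theorem pc_cls [Fintype G] (u v : G) : IsClassFunction G fun c => (pc u v c : ℂ) := by
  intro c g
  simp only [pc_eq]
  refine (Fintype.sum_equiv (MulAut.conj g).toEquiv _ _ fun x => ?_).symm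
  change _ = classInd u (g * x * g⁻¹) * classInd v ((g * x * g⁻¹)⁻¹ * (g * c * g⁻¹))
  rw [classInd_isClassFunction u x g, ← classInd_isClassFunction v _ g]
  congr 2
  group

theorem sum_mul_pc [Fintype G] {ψ : G → ℂ} (hψ : IsIrrCharacter G ψ) (u v : G) :
    ∑ c, ψ c * pc u v c = (centralizer ({u} : Set G)).index * (centralizer ({v} : Set G)).index *
      (ψ u * ψ v / ψ 1) := by
  simp only [pc_eq, Finset.mul_sum]
  rw [Finset.sum_comm]
  have h1 : ∀ x, ∑ c, ψ c * (classInd u x * classInd v (x⁻¹ * c)) =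
      ∑ y, classInd v y * (classInd u x * ψ (x * y)) := fun x =>
    (Fintype.sum_equiv (Equiv.mulLeft x) _ _ fun y => by simp; ring).symm
  simp only [h1]
  rw [Finset.sum_comm]
  simp only [← Finset.mul_sum, irr_sum_classFun_mul hψ _ (classInd_isClassFunction u),
    sum_classInd_mul u hψ.isClassFunction]
  simp only [mul_left_comm (classInd v _), ← Finset.mul_sum]
  rw [sum_classInd_mul v hψ.isClassFunction, card_isConj_eq_index, card_isConj_eq_index]
  ring

/-- The local data: `P` has odd prime order `p`, is its own centralizer and `N(P) = P ⟨b⟩`. -/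
structure Su (P : Subgroup G) (p : ℕ) (b : G) : Prop where
  pp : p.Prime
  p2 : p ≠ 2
  card : Nat.card P = p
  cent : ∀ y ∈ P, y ≠ 1 → ∀ g, g * y = y * g → g ∈ P
  notMem : b ∉ P
  inv : ∀ c ∈ P, b * c * b⁻¹ = c⁻¹
  sq : b * b = 1
  ti : ∀ c ∈ P, c ≠ 1 → ∀ g, g * c * g⁻¹ ∈ P → g ∈ P ∨ g * b⁻¹ ∈ P
  syl : ∀ g, orderOf g = p → ∃ h, h * g * h⁻¹ ∈ P
  idx : ∃ n, Nat.card G = 2 * p * n ∧ n % p = 1

/-- The non-exceptional character `χ` and its sign `δ`. -/
structure Ch [Fintype G] (P : Subgroup G) (χ : G → ℂ) (δ : ℤ) : Prop where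
  irr : IsIrrCharacter G χ
  ne : χ ≠ fun _ => 1
  sgn : δ = 1 ∨ δ = -1
  ind : ∀ ν : P →* ℂˣ, ν ≠ 1 → ∃ θ, IsIrrCharacter G θ ∧ θ ≠ (fun _ => 1) ∧ θ ≠ χ ∧
    ∀ g, indFun P (ExcData.ph (MonoidHom.id P) ν) g = δ * (θ g - χ g) - 1

namespace Su

variable {P : Subgroup G} {p : ℕ} {b : G}

theorem comm (S : Su P p b) (a c : P) : a * c = c * a := by
  have := Fact.mk S.pp
  exact (isCyclic_of_prime_card S.card).isMulCommutative.is_comm.comm a c

theorem ord (S : Su P p b) {c : G} (hc : c ∈ P) (h1 : c ≠ 1) : orderOf c = p := by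
  have := orderOf_dvd_natCard (⟨c, hc⟩ : P)
  rw [S.card, Nat.dvd_prime S.pp, Subgroup.orderOf_mk, orderOf_eq_one_iff] at this
  exact this.resolve_left h1

theorem exc (S : Su P p b) : ExcData P P (MonoidHom.id P) b where
  le := le_rfl
  cent c hc y hy := congrArg Subtype.val (S.comm ⟨c, hc⟩ ⟨y, hy⟩)
  surj := Function.surjective_id
  notMem := S.notMem
  inv c := ⟨by rw [S.inv c c.2]; exact inv_mem c.2, Subtype.ext (S.inv c c.2)⟩
  ti c hc g hg := S.ti c c.2 (fun h => hc (Subtype.ext h)) g hg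
  odd := by rw [S.card]; exact S.pp.odd_of_ne_two S.p2

theorem exists_nu [Finite G] (S : Su P p b) : ∃ ν : P →* ℂˣ, ν ≠ 1 := by
  have := Fintype.ofFinite (P →* ℂˣ)
  refine Fintype.exists_ne_of_one_lt_card ?_ 1
  rw [← Nat.card_eq_fintype_card, card_monoidHom_units_of_comm S.comm, S.card]
  exact S.pp.one_lt

theorem exists_ch [Fintype G] (S : Su P p b) : ∃ χ δ, Ch P χ δ := by
  classical
  have D := S.exc
  have hex : ∀ ν : P →* ℂˣ, ∃ α β : G → ℂ, ν ≠ 1 → IsIrrCharacter G α ∧ IsIrrCharacter G β ∧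
      α ≠ (fun _ => 1) ∧ β ≠ (fun _ => 1) ∧ α ≠ β ∧
      indFun P (ExcData.ph (MonoidHom.id P) ν) = α - β - fun _ => 1 := by
    intro ν
    by_cases hν : ν = 1
    · exact ⟨0, 0, fun h => absurd hν h⟩
    obtain ⟨α, β, h⟩ := exists_indFun_sub_one_eq P D.notMem (ν.comp (MonoidHom.id P))
      (fun h => D.ne_inv hν (D.comp_inj.1 h))
      (fun c => by
        obtain ⟨h, hh⟩ := D.inv c
        exact ⟨h, by rw [MonoidHom.comp_apply, hh]; simp⟩)
      (fun c hc => D.ti c (fun h => hc (by rw [MonoidHom.comp_apply, h, map_one])))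
    exact ⟨α, β, fun _ => h⟩
  choose α β hαβ using hex
  have gram0 : ∀ {ν μ : P →* ℂˣ}, ν ≠ 1 → μ ≠ 1 → α ν = α μ ∨ β ν = β μ := by
    intro ν μ hν hμ
    obtain ⟨a1, a2, a3, a4, a5, a6⟩ := hαβ ν hν
    obtain ⟨b1, b2, b3, b4, b5, b6⟩ := hαβ μ hμ
    have h := D.inner_ind hν hμ
    rw [a6, b6, classInner_sub_left, classInner_sub_right, classInner_sub_right (fun _ => 1),
      classInner_one_one, classInner_sub_left _ _ (fun _ => 1),
      a1.classInner_of_ne isIrrCharacter_one a3, a2.classInner_of_ne isIrrCharacter_one a4,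
      classInner_sub_right (fun _ => 1), isIrrCharacter_one.classInner_of_ne b1 b3.symm,
      isIrrCharacter_one.classInner_of_ne b2 b4.symm] at h
    by_contra hc
    rw [not_or] at hc
    rw [classInner_sub_left, classInner_sub_right, classInner_sub_right,
      a1.classInner_of_ne b1 hc.1, a2.classInner_of_ne b2 hc.2, a1.classInner_eq_ite b2,
      a2.classInner_eq_ite b1] at h
    split_ifs at h <;> norm_num at h
  obtain ⟨ν₀, hν₀⟩ := S.exists_nu
  by_cases hc : ∀ ν, ν ≠ 1 → α ν = α ν₀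
  · refine ⟨α ν₀, -1, (hαβ ν₀ hν₀).1, (hαβ ν₀ hν₀).2.2.1, Or.inr rfl, fun ν hν => ?_⟩
    obtain ⟨a1, a2, a3, a4, a5, a6⟩ := hαβ ν hν
    exact ⟨β ν, a2, a4, by rw [← hc ν hν]; exact a5.symm, fun g => by
      rw [a6, hc ν hν]; simp⟩
  · push Not at hc
    obtain ⟨ν₁, hν₁, h1⟩ := hc
    have h2 := (gram0 hν₁ hν₀).resolve_left h1
    refine ⟨β ν₀, 1, (hαβ ν₀ hν₀).2.1, (hαβ ν₀ hν₀).2.2.2.1, Or.inl rfl, fun ν hν => ?_⟩
    obtain ⟨a1, a2, a3, a4, a5, a6⟩ := hαβ ν hν
    have h3 : β ν = β ν₀ := by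
      rcases gram0 hν hν₀ with h | h
      · exact ((gram0 hν hν₁).resolve_left fun h' => h1 (h'.symm.trans h)).trans h2
      · exact h
    exact ⟨α ν, a1, a3, by rw [← h3]; exact a5, fun g => by rw [a6, h3]; simp⟩

/-- The singular elements are the conjugates of the non-identity elements of `P`. -/
theorem sing [Finite G] (S : Su P p b) {g : G} (hg : p ∣ orderOf g) :
    ∃ h, h * g * h⁻¹ ∈ P ∧ h * g * h⁻¹ ≠ 1 := by
  have h1 := orderOf_pow_orderOf_div (orderOf_pos g).ne' hg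
  obtain ⟨h, hh⟩ := S.syl _ h1
  refine ⟨h, S.cent _ hh (fun e => ?_) _ ?_, fun e => ?_⟩
  · rw [conj_eq_one_iff.1 e, orderOf_one] at h1
    exact S.pp.one_lt.ne h1
  · rw [← conj_pow]
    exact (Commute.self_pow _ _).eq
  · rw [conj_eq_one_iff.1 e, orderOf_one] at hg
    exact S.pp.one_lt.ne' (Nat.dvd_one.1 hg)

theorem reg (S : Su P p b) {g : G} (hg : ¬ p ∣ orderOf g) (h : G) (hh : h * g * h⁻¹ ∈ P) :
    g = 1 := by
  by_contra h1
  have := S.ord hh (fun e => h1 (conj_eq_one_iff.1 e))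
  rw [show h * g * h⁻¹ = MulAut.conj h g from rfl, MulEquiv.orderOf_eq] at this
  exact hg this.symm.dvd

theorem not_dvd_cent [Finite G] (S : Su P p b) {u : G} (hu : ¬ p ∣ orderOf u) (h1 : u ≠ 1) :
    ¬ p ∣ Nat.card (centralizer ({u} : Set G)) := by
  intro h
  have := Fact.mk S.pp
  obtain ⟨w, hw⟩ := exists_prime_orderOf_dvd_card' p h
  rw [← Subgroup.orderOf_coe] at hw
  obtain ⟨g, hg, hg1⟩ := S.sing hw.symm.dvd
  refine h1 (S.reg hu g (S.cent _ hg hg1 _ ?_))
  have := mem_centralizer_singleton_iff.1 w.2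
  calc g * u * g⁻¹ * (g * w * g⁻¹) = g * (u * w) * g⁻¹ := by group
    _ = _ := by rw [← this]; group

theorem dvd_pc [Fintype G] (S : Su P p b) {u v c : G} (hu : ¬ p ∣ orderOf u) (h1 : u ≠ 1)
    (hc : c ∈ P) (hc1 : c ≠ 1) : p ∣ pc u v c := by
  classical
  have := Fact.mk S.pp
  let f : Function.End {x // IsConj u x ∧ IsConj v (x⁻¹ * c)} := fun x => ⟨c * x * c⁻¹,
    x.2.1.trans (isConj_iff.2 ⟨c, rfl⟩), x.2.2.trans (isConj_iff.2 ⟨c, by group⟩)⟩
  have hf : ∀ (n : ℕ) x, ((f ^ n) x).1 = c ^ n * x * (c ^ n)⁻¹ := by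
    intro n
    induction n with
    | zero => intro x; simp; rfl
    | succ n ih =>
      intro x
      rw [pow_succ]
      refine (ih (f x)).trans ?_
      simp only [f]
      group
  have h := Equiv.Perm.card_fixedPoints_modEq (f := f) (p := p) (n := 1) (by
    funext x
    apply Subtype.ext
    rw [hf, pow_one, ← S.ord hc hc1, pow_orderOf_eq_one]
    simp [Function.End.one_def])
  have h0 : Fintype.card f.fixedPoints = 0 := by
    rw [Fintype.card_eq_zero_iff]
    refine ⟨fun ⟨x, hx⟩ => ?_⟩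
    obtain ⟨g, hg⟩ := isConj_iff.1 x.2.1
    refine h1 (S.reg hu g ?_)
    rw [hg]
    exact S.cent c hc hc1 _ (mul_inv_eq_iff_eq_mul.1 (congrArg Subtype.val hx)).symm
  rw [h0, Fintype.card_subtype] at h
  exact (Nat.modEq_zero_iff_dvd).1 h

end Su

end Cfsg.Lib.Alex
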