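import Cfsg.Agent.Alex.Pell

/-!
# The numerical sieve
-/

set_option autoImplicit false

namespace Cfsg.Lib.Alex

/-- The weight `(x - s) (y - s)` for consecutive `x`, `y`. -/
def wt (x y s : ℕ) : ℕ := (x - s) * (y - s) + (s - x) * (s - y)

theorem wt_cast {x y : ℕ} (h : y = x + 1 ∨ x = y + 1) (s : ℕ) :
    (wt x y s : ℤ) = ((x : ℤ) - s) * (y - s) := by
  unfold wt
  rcases h with rfl | rfl
  · rcases Nat.lt_or_ge x s with h | h
    · obtain ⟨k, rfl⟩ := Nat.exists_eq_add_of_lt h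
      rw [show x - (x + k + 1) = 0 by omega, show x + k + 1 - x = k + 1 by omega,
        show x + k + 1 - (x + 1) = k by omega]
      push_cast; ring
    · obtain ⟨k, rfl⟩ := Nat.exists_eq_add_of_le h
      rw [show s - (s + k) = 0 by omega, show s + k - s = k by omega,
        show s + k + 1 - s = k + 1 by omega]
      push_cast; ring
  · rcases Nat.lt_or_ge y s with h | h
    · obtain ⟨k, rfl⟩ := Nat.exists_eq_add_of_lt h
      rw [show y - (y + k + 1) = 0 by omega, show y + k + 1 - y = k + 1 by omega,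
        show y + k + 1 - (y + 1) = k by omega]
      push_cast; ring
    · obtain ⟨k, rfl⟩ := Nat.exists_eq_add_of_le h
      rw [show s - (s + k) = 0 by omega, show s + k - s = k by omega,
        show s + k + 1 - s = k + 1 by omega]
      push_cast; ring

/-- The multiples `s` of `D` with `(r - 1) s ≤ r m`. -/
def lst (r m D : ℕ) : List ℕ := (List.range (r * m / ((r - 1) * D))).map fun i => D * (i + 1)

theorem mem_lst {r m D s : ℕ} (hr : 2 ≤ r) (h0 : 0 < s) (hD : D ∣ s) (h : (r - 1) * s ≤ r * m) :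
    s ∈ lst r m D := by
  obtain ⟨i, rfl⟩ := hD
  have hD0 : 0 < D := Nat.pos_of_mul_pos_right h0
  have hi : 0 < i := Nat.pos_of_mul_pos_left h0
  refine List.mem_map.2 ⟨i - 1, List.mem_range.2 ?_, by rw [Nat.sub_add_cancel hi]⟩
  have : i ≤ r * m / ((r - 1) * D) :=
    (Nat.le_div_iff_mul_le (Nat.mul_pos (by omega) hD0)).2 (by rwa [mul_comm i, mul_assoc])
  omega

/-- What an element of order `r` central in a Sylow subgroup gives. -/
def Fct (p N m r s c : ℕ) : Prop :=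
  r ∣ N → r ≠ p → 0 < s ∧ (∀ j, r ^ j ∣ N → r ^ j ∣ s) ∧ (r - 1) * s ≤ r * m ∧ p * N ≤ c * s

theorem gcd_dvd_of {r N s : ℕ} (hr : r.Prime) (h : ∀ j, r ^ j ∣ N → r ^ j ∣ s) :
    N.gcd (r ^ 20) ∣ s := by
  obtain ⟨j, -, hj⟩ := (Nat.dvd_prime_pow hr).1 (Nat.gcd_dvd_right N (r ^ 20))
  exact hj ▸ h j (hj ▸ Nat.gcd_dvd_left _ _)

/-- One step of the sieve. -/
def rest (x y p N m r : ℕ) (f : ℕ → Bool) (B : ℕ) : Bool :=
  if N % r == 0 && r != p then (lst r m (N.gcd (r ^ 20))).any fun s =>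
    Nat.ble (p * N / s * wt x y s) B && f (B - p * N / s * wt x y s) else f B

theorem rest_true {x y p N m r s c B' : ℕ} {f : ℕ → Bool} (hr : r.Prime) (h : Fct p N m r s c)
    (hf : ∀ B, B' ≤ B → f B = true) (B : ℕ) (hB : c * wt x y s + B' ≤ B) :
    rest x y p N m r f B = true := by
  unfold rest
  split_ifs with hc
  · simp only [Bool.and_eq_true, beq_iff_eq, bne_iff_ne] at hc
    obtain ⟨h1, h2, h3, h4⟩ := h (Nat.dvd_of_mod_eq_zero hc.1) hc.2
    have : p * N / s * wt x y s ≤ c * wt x y s :=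
      Nat.mul_le_mul_right _ (Nat.div_le_of_le_mul (by rwa [mul_comm s]))
    refine List.any_eq_true.2 ⟨s, mem_lst hr.two_le h1 (gcd_dvd_of hr h2) h3, ?_⟩
    rw [Bool.and_eq_true, Nat.ble_eq]
    exact ⟨by omega, hf _ (by omega)⟩
  · exact hf _ (by omega)

/-- The possible orders. -/
def ordL : List ℕ := [60, 360, 504, 1680, 3360, 4080, 4620, 7800, 7980, 9828, 11760, 13800, 20160,
  21420, 21924, 46620, 52416, 110544, 124992, 265680, 511920, 952560, 5695200, 6142500, 9355500,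
  11239200, 15240960, 15724800, 32760000, 577886400, 876355200, 3454617600, 6920642400,
  13823997600]

/-- The possible parameters when there is an elementary subgroup of order eight. -/
def eightL : List (ℕ × ℕ × ℕ × ℕ × ℕ) := [(8, 9, 7, 1, 8), (9, 8, 5, 1, 8), (15, 16, 7, 1, 16),
  (16, 15, 17, 1, 16), (63, 64, 31, 1, 64), (64, 63, 5, 1, 64), (64, 63, 13, 1, 64),
  (24, 25, 23, 1, 24), (48, 49, 47, 1, 48), (80, 81, 79, 1, 80), (224, 225, 223, 1, 224),
  (2400, 2401, 2399, 1, 2400), (225, 224, 113, 1, 224), (25, 24, 13, 1, 24), (49, 48, 5, 1, 48),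
  (81, 80, 41, 1, 80), (2401, 2400, 1201, 1, 2400), (49, 48, 5, 9, 48), (64, 63, 13, 25, 64),
  (64, 63, 13, 105, 64)]

/-- The innermost test. -/
def inner (x y p m R : ℕ) : Bool :=
  (lst 4 m ((R * x * y).gcd (2 ^ 20))).all fun k =>
    !(k % 4 == 0 && p * (R * x * y) % k == 0 &&
      Nat.ble (p * (R * x * y) / k * wt x y k) ((R ^ 2 - 1) * x * y) &&
      rest x y p (R * x * y) m 3 (rest x y p (R * x * y) m 5 (rest x y p (R * x * y) m 7
        fun _ => true)) ((R ^ 2 - 1) * x * y - p * (R * x * y) / k * wt x y k)) ||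
    (ordL.contains (R ^ 2 * p * x * y) &&
      (!(k % 8 == 0 && Nat.ble (7 * k) (8 * m)) || eightL.contains (x, y, p, R, k)))

/-- The exponents `e` with `r ^ e ≤ 2 m`. -/
def exps (r m : ℕ) : List ℕ := (List.range 14).filter fun e => Nat.ble (r ^ e) (2 * m)

/-- The sieve for one pair of degrees. -/
def outer (x y m : ℕ) : Bool :=
  (List.range (2 * x - y + 1)).all fun p =>
    !(Nat.ble 5 p && (2 * x - y) % p == 0 &&
      (List.range' 2 66).all fun q => Nat.ble p q || p % q != 0) ||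
    (exps 2 m).all fun a => (exps 3 m).all fun b => (exps 5 m).all fun c => (exps 7 m).all fun d =>
      !((2 ^ a * 3 ^ b * 5 ^ c * 7 ^ d) ^ 2 % p == 1) ||
        inner x y p m (2 ^ a * 3 ^ b * 5 ^ c * 7 ^ d)

theorem sieve : (stL.all fun m => outer m (m + 1) m && outer (m + 1) m m) = true := by
  decide +kernel

theorem exists_exps {R N : ℕ} (h : R ∣ 210 ^ N) :
    ∃ a b c d, R = 2 ^ a * 3 ^ b * 5 ^ c * 7 ^ d := by
  rw [show 210 = 2 * 3 * 5 * 7 from rfl, mul_pow, mul_pow, mul_pow] at h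
  obtain ⟨R₁, d, h1, hd, rfl⟩ := (Nat.dvd_mul).1 h
  obtain ⟨R₂, c, h2, hc, rfl⟩ := (Nat.dvd_mul).1 h1
  obtain ⟨a, b, ha, hb, rfl⟩ := (Nat.dvd_mul).1 h2
  obtain ⟨a, -, rfl⟩ := (Nat.dvd_prime_pow Nat.prime_two).1 ha
  obtain ⟨b, -, rfl⟩ := (Nat.dvd_prime_pow Nat.prime_three).1 hb
  obtain ⟨c, -, rfl⟩ := (Nat.dvd_prime_pow Nat.prime_five).1 hc
  obtain ⟨d, -, rfl⟩ := (Nat.dvd_prime_pow Nat.prime_seven).1 hd
  exact ⟨a, b, c, d, rfl⟩

theorem num {x y p R n k c₂ s₃ c₃ s₅ c₅ s₇ c₇ : ℕ} (hp : p.Prime) (h5 : 5 ≤ p)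
    (hxy : y = x + 1 ∨ x = y + 1) (hd : p ∣ 2 * x - y) (hmd : R ^ 2 % p = 1)
    (hs : R * x * y ∣ 210 ^ n) (k0 : 0 < k) (k4 : 4 ∣ k) (k3 : 3 * k ≤ 4 * min x y)
    (k2 : ∀ j, 2 ^ j ∣ R * x * y → 2 ^ j ∣ k) (hk : c₂ * k = p * (R * x * y))
    (f3 : Fct p (R * x * y) (min x y) 3 s₃ c₃) (f5 : Fct p (R * x * y) (min x y) 5 s₅ c₅)
    (f7 : Fct p (R * x * y) (min x y) 7 s₇ c₇)
    (hB : c₂ * wt x y k + (c₃ * wt x y s₃ + (c₅ * wt x y s₅ + c₇ * wt x y s₇)) ≤
      (R ^ 2 - 1) * x * y) :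
    R ^ 2 * p * x * y ∈ ordL ∧ (8 ∣ k → 7 * k ≤ 8 * min x y → (x, y, p, R, k) ∈ eightL) := by
  generalize hm : min x y = m at *
  have m3 : 3 ≤ m := by omega
  have hxy' : x * y = m * (m + 1) := by
    rcases hxy with rfl | rfl
    · rw [← hm, min_eq_left (by omega)]
    · rw [← hm, min_eq_right (by omega), mul_comm]
  have hmL : m ∈ stL := mem_stL (N := n) (by omega)
    (hxy' ▸ Dvd.dvd.trans ⟨R, by ring⟩ hs)
  have hout : outer x y m = true := by
    have := List.all_eq_true.1 sieve m hmL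
    rw [Bool.and_eq_true] at this
    rcases hxy with rfl | rfl
    · obtain rfl : m = x := by omega
      exact this.1
    · obtain rfl : m = y := by omega
      exact this.2
  have mle : m ≤ 4374 := by
    have : ∀ m ∈ stL, m ≤ 4374 := by decide
    exact this m hmL
  obtain ⟨a, b, c, d, hR⟩ := exists_exps (Dvd.dvd.trans ⟨x * y, by ring⟩ hs : R ∣ 210 ^ n)
  have hex : ∀ {r e : ℕ}, 2 ≤ r → r ^ e ≤ 2 * m → e ∈ exps r m := by
    intro r e hr h
    refine List.mem_filter.2 ⟨List.mem_range.2 ?_, Nat.ble_eq_true_of_le h⟩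
    by_contra he
    have : 2 ^ 14 ≤ r ^ e :=
      (Nat.pow_le_pow_left hr _).trans (Nat.pow_le_pow_right (by omega) (by omega))
    omega
  have hex' : ∀ {r e s c : ℕ}, 3 ≤ r → Fct p (R * x * y) m r s c → r ^ e ∣ R → e ∈ exps r m := by
    intro r e s c hr f he
    refine hex (by omega) ?_
    rcases Nat.eq_zero_or_pos e with rfl | e0
    · simp; omega
    have h1 : r ∣ R := (dvd_pow_self r e0.ne').trans he
    obtain ⟨h2, h3, h4, -⟩ := f ((h1.mul_right x).mul_right y) (by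
      rintro rfl
      rw [Nat.mod_eq_zero_of_dvd (h1.trans (dvd_pow_self R two_ne_zero))] at hmd
      omega)
    have := Nat.le_of_dvd h2 (h3 e ((he.mul_right x).mul_right y))
    obtain ⟨r, rfl⟩ := Nat.exists_eq_add_of_le hr
    rw [show 3 + r - 1 = r + 2 by omega] at h4
    nlinarith
  have ha : a ∈ exps 2 m := hex le_rfl (by
    have := Nat.le_of_dvd k0 (k2 a ⟨3 ^ b * 5 ^ c * 7 ^ d * x * y, by rw [hR]; ring⟩)
    omega)
  have hb := hex' (e := b) le_rfl f3 ⟨2 ^ a * 5 ^ c * 7 ^ d, by rw [hR]; ring⟩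
  have hc := hex' (e := c) (by norm_num) f5 ⟨2 ^ a * 3 ^ b * 7 ^ d, by rw [hR]; ring⟩
  have hd' := hex' (e := d) (by norm_num) f7 ⟨2 ^ a * 3 ^ b * 5 ^ c, by rw [hR]; ring⟩
  have h1 := List.all_eq_true.1 hout p
    (List.mem_range.2 (Nat.lt_succ_of_le (Nat.le_of_dvd (by omega) hd)))
  rw [Bool.or_eq_true, Bool.not_eq_true'] at h1
  replace h1 := h1.resolve_left (by
    simp only [Bool.not_eq_false, Bool.and_eq_true, Nat.ble_eq, beq_iff_eq, List.all_eq_true,
      Bool.or_eq_true, bne_iff_ne]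
    refine ⟨⟨h5, Nat.mod_eq_zero_of_dvd hd⟩, fun q hq => ?_⟩
    by_contra h
    rw [not_or, not_not] at h
    have := (Nat.dvd_prime hp).1 (Nat.dvd_of_mod_eq_zero h.2)
    have := (List.mem_range'_1.1 hq).1
    omega)
  have h2 := List.all_eq_true.1 (List.all_eq_true.1 (List.all_eq_true.1 (List.all_eq_true.1 h1 a
    ha) b hb) c hc) d hd'
  rw [← hR, hmd] at h2
  have h3 := List.all_eq_true.1 (show inner x y p m R = true by simpa using h2) k
    (mem_lst (by norm_num) k0 (gcd_dvd_of Nat.prime_two k2) k3)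
  have e : p * (R * x * y) / k = c₂ := by rw [← hk, Nat.mul_div_cancel _ k0]
  rw [e, Bool.or_eq_true, Bool.not_eq_true'] at h3
  replace h3 := h3.resolve_left (by
    simp only [Bool.not_eq_false, Bool.and_eq_true, Nat.ble_eq, beq_iff_eq]
    refine ⟨⟨⟨by omega, by rw [← hk, Nat.mul_mod_left]⟩, by omega⟩, ?_⟩
    exact rest_true Nat.prime_three f3 (rest_true Nat.prime_five f5 (rest_true Nat.prime_seven f7
      (B' := 0) fun _ _ => rfl)) _ (by omega))
  simp only [Bool.and_eq_true, List.contains_iff_mem, Bool.or_eq_true, Bool.not_eq_true',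
    Bool.and_eq_false_iff, beq_eq_false_iff_ne] at h3
  refine ⟨h3.1, fun h8 h7 => h3.2.resolve_left ?_⟩
  rw [not_or, Bool.not_eq_false, Nat.ble_eq]
  omega

theorem ordL_le {n : ℕ} (h : n ∈ ordL) : n ≤ 13823997600 := by
  have : ∀ n ∈ ordL, n ≤ 13823997600 := by decide
  exact this n h

theorem ord_l2 {n q : ℕ} (h : n ∈ ordL) (e : Nat.gcd 2 (q - 1) * n = q * (q - 1) * (q + 1)) :
    q ∈ [4, 5, 9, 8, 16, 25, 27, 81, 2401] ∨ q ∈ [15, 20, 21, 24, 28, 35, 36, 48, 63, 80, 224, 225,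
      2400] := by
  have key : ∀ q ∈ List.range 3100, q * (q - 1) * (q + 1) / Nat.gcd 2 (q - 1) ∈ ordL →
      q ∈ [4, 5, 9, 8, 16, 25, 27, 81, 2401] ∨ q ∈ [15, 20, 21, 24, 28, 35, 36, 48, 63, 80, 224,
        225, 2400] := by decide +kernel
  refine key q (List.mem_range.2 ?_) (by rwa [← e, Nat.mul_div_cancel_left _ (Nat.gcd_pos_of_pos_left _ two_pos)])
  by_contra hq
  have h1 := ordL_le h
  have h2 := Nat.mul_le_mul (Nat.gcd_le_left (q - 1) two_pos) h1
  have h3 := Nat.mul_le_mul (Nat.mul_le_mul (show 3100 ≤ q by omega) (show 3099 ≤ q - 1 by omega))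
    (show 3101 ≤ q + 1 by omega)
  omega

theorem ord_three {n q g z : ℕ} (h : n ∈ ordL) (hq : Odd q) (hg : g ∣ 3)
    (hz : z = q ^ 3 - 1 ∨ z = q ^ 3 + 1) : g * n ≠ q ^ 3 * (z * (q ^ 2 - 1)) := by
  intro e
  have key : ∀ q < 30, q % 2 = 1 → ∀ g ∈ [1, 3], ∀ n ∈ ordL,
      g * n ≠ q ^ 3 * ((q ^ 3 - 1) * (q ^ 2 - 1)) ∧
      g * n ≠ q ^ 3 * ((q ^ 3 + 1) * (q ^ 2 - 1)) := by decide +kernel
  have hg' : g ∈ [1, 3] := by simpa using (Nat.dvd_prime Nat.prime_three).1 hg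
  have : q < 30 := by
    by_contra hq
    have h1 := Nat.mul_le_mul (Nat.le_of_dvd (by norm_num) hg) (ordL_le h)
    have h2 := Nat.pow_le_pow_left (not_lt.1 hq) 3
    have h3 := Nat.pow_le_pow_left (not_lt.1 hq) 2
    have h4 := Nat.mul_le_mul h2 (Nat.mul_le_mul (show 30 ^ 3 - 1 ≤ z by omega)
      (show 30 ^ 2 - 1 ≤ q ^ 2 - 1 by omega))
    omega
  have := key q this (Nat.odd_iff.1 hq) g hg' n h
  rcases hz with rfl | rfl
  exacts [this.1 e, this.2 e]

theorem ord_sz {n q : ℕ} (h : n ∈ ordL) : n ≠ q ^ 2 * (q ^ 2 + 1) * (q - 1) := by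
  intro e
  have key : ∀ q < 200, q ^ 2 * (q ^ 2 + 1) * (q - 1) ∉ ordL := by decide +kernel
  refine key q ?_ (e ▸ h)
  by_contra hq
  have h1 := ordL_le h
  have h3 := Nat.pow_le_pow_left (not_lt.1 hq) 2
  have h4 := Nat.mul_le_mul (Nat.mul_le_mul h3 (Nat.add_le_add_right h3 1))
    (show 199 ≤ q - 1 by omega)
  omega

end Cfsg.Lib.Alex
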