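import Cfsg.Agent.Block.TwoGood
import Mathlib.GroupTheory.Sylow
import Mathlib.GroupTheory.IndexNormal

/-!
# Sylow subgroups all of whose elements have a Sylow subgroup as centralizer
-/

set_option autoImplicit false

namespace Cfsg.Lib.Alex

open Subgroup Cfsg.Lib.Block.TwoGood

variable {G : Type*} [Group G] [Finite G]

theorem dvd_ncard_conj (M : Subgroup G) {X : Set G} (hX : ∀ g ∈ M, ∀ x ∈ X, g * x * g⁻¹ ∈ X)
    {m : ℕ} (h : ∀ x ∈ X, m ∣ (centralizer ({x} : Set G)).relIndex M) : m ∣ X.ncard := by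
  let : MulAction M G := MulAction.compHom _ (MulAut.conj.comp M.subtype)
  refine dvd_ncard_of_index (A := M) (fun g x hx => hX g g.2 x hx) fun x hx => ?_
  have : MulAction.stabilizer M x = (centralizer ({x} : Set G)).subgroupOf M := by
    ext g
    rw [MulAction.mem_stabilizer_iff, mem_subgroupOf, mem_centralizer_singleton_iff]
    exact mul_inv_eq_iff_eq_mul
  rw [this]
  exact h x hx

omit [Finite G] in
theorem relIndex_mul_inf (H K : Subgroup G) : H.relIndex K * Nat.card ↥(H ⊓ K) = Nat.card K := by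
  rw [relIndex, ← (H.subgroupOf K).index_mul_card, ← inf_subgroupOf_right,
    Nat.card_congr (subgroupOfEquivOfLe (inf_le_right : H ⊓ K ≤ K)).toEquiv]

theorem exists_relIndex_prime {r : ℕ} (hr : r.Prime) {S : Subgroup G} (hS : Nat.card S = r ^ 4)
    {a : G} (ha : a ∈ S) (hna : a ∉ centralizer (S : Set G)) :
    ∃ u ∈ S, (centralizer ({u} : Set G)).relIndex S = r := by
  by_contra hc
  push Not at hc
  have h1 : ∀ u ∈ S, u ∉ centralizer (S : Set G) →
      r ^ 2 ∣ (centralizer ({u} : Set G)).relIndex S := by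
    intro u hu hnu
    obtain ⟨j, -, hj⟩ := (Nat.dvd_prime_pow hr).1 (hS ▸ relIndex_dvd_card (centralizer {u}) S)
    rw [hj]
    refine pow_dvd_pow _ ?_
    by_contra h
    have : j < 2 := by omega
    interval_cases j
    · exact hnu fun g hg => (mem_centralizer_singleton_iff.1 (relIndex_eq_one.1 hj hg))
    · exact hc u hu (by rw [hj, pow_one])
  set Z := centralizer (S : Set G) ⊓ S
  have h2 : r ^ 2 ∣ ((S : Set G) \ Z).ncard := by
    refine dvd_ncard_conj S (fun g hg x hx => ?_) fun x hx => h1 x hx.1 fun h => hx.2 ⟨h, hx.1⟩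
    refine ⟨S.mul_mem (S.mul_mem hg hx.1) (S.inv_mem hg), fun h => hx.2 ⟨?_, hx.1⟩⟩
    have := h.1 g hg
    have e : x = g * x * g⁻¹ := by
      rw [← mul_left_cancel_iff (a := g), this]; group
    exact e ▸ h.1
  have h3 : ((S : Set G) \ Z).ncard + Nat.card Z = r ^ 4 := by
    rw [← hS]
    exact Set.ncard_sdiff_add_ncard_of_subset (s := (Z : Set G)) (t := (S : Set G))
      (fun _ h => h.2)
  have h4 : r ^ 2 ∣ Nat.card Z := (Nat.dvd_add_right h2).1 (h3 ▸ pow_dvd_pow r (by norm_num))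
  have h5 : Z < centralizer ({a} : Set G) ⊓ S :=
    lt_of_le_of_ne (inf_le_inf_right _ (centralizer_le (Set.singleton_subset_iff.2 ha))) fun e =>
      hna (e.ge ⟨mem_centralizer_singleton_iff.2 rfl, ha⟩).1
  have h6 := relIndex_mul_inf (centralizer ({a} : Set G)) S
  have h7 : r ^ 2 ≤ (centralizer ({a} : Set G)).relIndex S :=
    Nat.le_of_dvd (Nat.pos_of_ne_zero index_ne_zero_of_finite) (h1 a ha hna)
  obtain ⟨j, hj⟩ := card_dvd_of_le h5.le
  have h9 : j ≠ 1 := fun e => h5.ne (eq_of_le_of_card_ge h5.le (by rw [hj, e, mul_one]))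
  have h8 := Nat.le_of_dvd Nat.card_pos h4
  have j0 : j ≠ 0 := fun e => Nat.card_pos.ne' (by rw [hj, e, mul_zero])
  have := Nat.mul_le_mul h7 (Nat.mul_le_mul h8 (show 2 ≤ j by omega))
  rw [← hj, h6, hS] at this
  have := pow_pos hr.pos 4
  nlinarith

theorem le_centralizer_of_cent {r : ℕ} (hr : r.Prime) {S : Subgroup G} (hS : Nat.card S = r ^ 4)
    (hC : ∀ u ∈ S, u ≠ 1 → Nat.card (centralizer ({u} : Set G)) = r ^ 4)
    (hg : ∀ m, m ∣ r ^ 3 - 1 → m * r ^ 4 ∣ Nat.card G → m < r) : S ≤ centralizer (S : Set G) := by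
  intro a ha
  by_contra hna
  obtain ⟨u, hu, hi⟩ := exists_relIndex_prime hr hS ha hna
  have u1 : u ≠ 1 := by
    rintro rfl
    rw [relIndex_eq_one.2 fun g _ => mem_centralizer_singleton_iff.2 (by simp)] at hi
    exact hr.one_lt.ne hi
  have hT := hC u hu u1
  generalize centralizer ({u} : Set G) = T at hi hT
  have hD : Nat.card ↥(T ⊓ S) = r ^ 3 := by
    have := relIndex_mul_inf T S
    rw [hi, hS, pow_succ' r 3] at this
    exact Nat.eq_of_mul_eq_mul_left hr.pos this
  have hn : ∀ U : Subgroup G, T ⊓ S ≤ U → Nat.card U = r ^ 4 →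
      U ≤ normalizer ((T ⊓ S : Subgroup G) : Set G) := by
    intro U h1 h2
    have := relIndex_mul_inf (T ⊓ S) U
    rw [inf_eq_left.2 h1, hD, h2, pow_succ' r 3] at this
    refine (normal_subgroupOf_iff_le_normalizer h1).1 (normal_of_index_eq_minFac_card ?_)
    rw [h2, hr.pow_minFac (by norm_num)]
    exact Nat.eq_of_mul_eq_mul_right (pow_pos hr.pos 3) this
  set M := normalizer ((T ⊓ S : Subgroup G) : Set G)
  have hM := relIndex_mul_inf S M
  rw [inf_eq_left.2 (hn S inf_le_right hS), hS] at hM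
  have h1 : S.relIndex M ∣ (((T ⊓ S : Subgroup G) : Set G) \ {1}).ncard := by
    refine dvd_ncard_conj M (fun g hg x hx => ?_) fun x hx => ?_
    · exact ⟨(mem_normalizer_iff.1 hg x).1 hx.1, fun h => hx.2 (conj_eq_one_iff.1 h)⟩
    have h2 := relIndex_mul_inf (centralizer ({x} : Set G)) M
    obtain ⟨k, hk⟩ := card_dvd_of_le (inf_le_left : centralizer ({x} : Set G) ⊓ M ≤ _)
    rw [hC x hx.1.2 hx.2] at hk
    rw [← hM, hk, mul_left_comm, mul_comm] at h2
    exact ⟨k, Nat.eq_of_mul_eq_mul_left Nat.card_pos h2⟩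
  rw [Set.ncard_sdiff_singleton_of_mem (one_mem (T ⊓ S)), ← Nat.card_coe_set_eq] at h1
  have h2 := hg _ (hD ▸ h1) (hM ▸ card_subgroup_dvd_card M)
  have h3 := relIndex_le_of_le_right (H := S) (hn T inf_le_left hT) index_ne_zero_of_finite
  have h4 := relIndex_mul_inf S T
  rw [inf_comm, hD, hT, pow_succ' r 3] at h4
  have := Nat.eq_of_mul_eq_mul_right (pow_pos hr.pos 3) h4
  omega

theorem ti_false {r x : ℕ} [Fact r.Prime] (hx : x % 4 = 1) (hx1 : 1 < x)
    (hS : ∀ S : Sylow r G, Nat.card S = x)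
    (hC : ∀ S : Sylow r G, ∀ u ∈ S, u ≠ 1 → centralizer ({u} : Set G) = S)
    (hX : {u : G | u ≠ 1 ∧ ∃ S : Sylow r G, u ∈ S}.ncard + 1 = x * x) {A : Subgroup G}
    (hA : 8 ∣ Nat.card A) (hA2 : ∀ a ∈ A, a ^ 2 = 1) : False := by
  classical
  have := Fintype.ofFinite (Sylow r G)
  have := Fintype.ofFinite G
  have h1 : {u : G | u ≠ 1 ∧ ∃ S : Sylow r G, u ∈ S}.ncard = Nat.card (Sylow r G) * (x - 1) := by
    have : {u : G | u ≠ 1 ∧ ∃ S : Sylow r G, u ∈ S} = ↑(Finset.univ.biUnion fun S : Sylow r G =>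
        (Finset.univ.filter fun u : G => u ∈ S).erase 1) := by
      ext u; simp [and_comm]
    rw [this, Set.ncard_coe_finset, Finset.card_biUnion, Finset.sum_congr rfl (g := fun _ => x - 1),
      Finset.sum_const, Finset.card_univ, Nat.card_eq_fintype_card, smul_eq_mul]
    · intro S _
      rw [Finset.card_erase_of_mem (by simp), ← hS S, ← Fintype.card_subtype,
        Nat.card_eq_fintype_card]
      congr!
    · intro S _ T _ hST
      refine Finset.disjoint_left.2 fun u h1 h2 => hST (Sylow.ext ?_)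
      simp only [Finset.mem_erase, Finset.mem_filter, Finset.mem_univ, true_and] at h1 h2
      rw [← hC S u h1.2 h1.1, hC T u h2.2 h1.1]
  have h2 : Nat.card (Sylow r G) = x + 1 := by
    obtain ⟨x, rfl⟩ := Nat.exists_eq_add_of_lt hx1
    rw [h1, show 1 + x + 1 - 1 = x + 1 by omega] at hX
    exact Nat.eq_of_mul_eq_mul_right (Nat.add_one_pos x) (by linear_combination hX)
  have h3 : 4 ∣ (Set.univ : Set (Sylow r G)).ncard := by
    refine dvd_ncard_of_index (A := A) (fun _ _ _ => Set.mem_univ _) fun S _ => ?_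
    have hfix : ∀ a ∈ A, a ≠ 1 → ∀ u ∈ S, a * u = u * a → u = 1 := by
      intro a ha a1 u hu h
      by_contra u1
      have h4 := (S : Subgroup G).orderOf_dvd_natCard
        ((hC S u hu u1).le (mem_centralizer_singleton_iff.2 h))
      rw [orderOf_eq_prime (hA2 a ha) a1, hS] at h4
      omega
    have hinv : ∀ a : MulAction.stabilizer A S, a ≠ 1 → ∀ u ∈ S, a.1.1 * u * a.1.1⁻¹ = u⁻¹ := by
      intro a a1 u hu
      have h4 := (mem_normalizer_iff.1 (Sylow.smul_eq_iff_mem_normalizer.1 a.2) u).1 hu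
      have h5 : a.1.1 * a.1.1 = 1 := by rw [← pow_two]; exact hA2 _ a.1.2
      refine eq_inv_of_mul_eq_one_right (hfix _ a.1.2 (fun h => a1 (by ext; exact h)) _
        (mul_mem hu h4) ?_)
      by_cases u1 : u = 1
      · simp [u1]
      have h6 := mem_centralizer_singleton_iff.1 ((hC S u hu u1).ge h4)
      conv_rhs => rw [← h6]
      rw [inv_eq_of_mul_eq_one_right h5]
      simp only [← mul_assoc]
    have h4 : Nat.card (MulAction.stabilizer A S) ≤ Nat.card (Fin 2) := by
      refine Nat.card_le_card_of_injective (fun a => if a = 1 then 0 else 1) fun a b h => ?_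
      by_cases a1 : a = 1 <;> by_cases b1 : b = 1 <;> simp [a1, b1] at h ⊢
      by_contra hab
      obtain ⟨u, hu, u1⟩ := (S : Subgroup G).bot_or_exists_ne_one.resolve_left fun e => by
        have := hS S
        rw [e, card_bot] at this
        omega
      refine u1 (hfix (b⁻¹ * a).1.1 (b⁻¹ * a).1.2 (fun e => hab ?_) u hu ?_)
      · exact (inv_mul_eq_one.1 (by ext; exact e)).symm
      · have := (hinv a a1 u hu).trans (hinv b b1 u hu).symm
        change b.1.1⁻¹ * a.1.1 * u = u * (b.1.1⁻¹ * a.1.1)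
        calc _ = b.1.1⁻¹ * (a.1.1 * u * a.1.1⁻¹) * a.1.1 := by group
          _ = _ := by rw [this]; group
    have h5 := (MulAction.stabilizer A S).index_mul_card
    have h6 := Nat.card_pos (α := MulAction.stabilizer A S)
    rw [Nat.card_fin] at h4
    generalize Nat.card (MulAction.stabilizer A S) = k at *
    interval_cases k <;> omega
  rw [Set.ncard_univ] at h3
  omega

end Cfsg.Lib.Alex
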