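import Cfsg.Agent.Alex.Dat
import Cfsg.Agent.Alex.Num
import Cfsg.Agent.Alex.TI
import Cfsg.Agent.Known.SL2Sylow

/-!
# Consequences of the numerical data
-/

set_option autoImplicit false

namespace Cfsg.Lib.Alex

open Cfsg Subgroup Cfsg.Lib.Char Finset

variable {G : Type*} [Group G] [Fintype G] {p x y R : ℕ} {s : G → ℕ}

open Classical in
/-- The regular elements other than the identity. -/
noncomputable def RS (G : Type*) [Group G] [Fintype G] (p : ℕ) : Finset G :=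
  univ.filter fun g => ¬ p ∣ orderOf g ∧ g ≠ 1

theorem mem_RS {g : G} : g ∈ RS G p ↔ ¬ p ∣ orderOf g ∧ g ≠ 1 := by simp [RS]

/-- The contribution of the elements of order `n`. -/
noncomputable def W (p : ℕ) (s : G → ℕ) (f : ℕ → ℕ) (n : ℕ) : ℕ :=
  ∑ g ∈ RS G p with orderOf g = n, f (s g)

theorem W_sum (f : ℕ → ℕ) (T : Finset ℕ) : ∑ n ∈ T, W p s f n ≤ ∑ g ∈ RS G p, f (s g) := by
  unfold W
  rw [sum_fiberwise_eq_sum_filter]
  exact sum_le_sum_of_subset (filter_subset _ _)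

omit [Fintype G] in
theorem orderOf_conj' (g u : G) : orderOf (g * u * g⁻¹) = orderOf u :=
  (MulAut.conj g).orderOf_eq u

namespace Dat

theorem R0 (D : Dat G p x y R s) : 0 < R := Nat.pos_of_ne_zero fun h => by
  have := D.card
  rw [h] at this
  exact (Nat.card_pos (α := G)).ne' (by rw [this]; simp)

theorem cl_eq (D : Dat G p x y R s) {u : G} (hu : u ∈ RS G p) : ∃ a, 0 < a ∧
    a * Nat.card (centralizer ({u} : Set G)) = R * s u ∧
    (centralizer ({u} : Set G)).index * s u = p * (R * x * y) * a := by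
  obtain ⟨a, h1, h2⟩ := D.cent u (mem_RS.1 hu).2 (mem_RS.1 hu).1
  refine ⟨a, h1, h2, Nat.eq_of_mul_eq_mul_left D.R0 ?_⟩
  have := (centralizer ({u} : Set G)).index_mul_card
  rw [D.card] at this
  linear_combination a * this - (centralizer ({u} : Set G)).index * h2

theorem spos (D : Dat G p x y R s) {u : G} (hu : u ∈ RS G p) : 0 < s u := by
  obtain ⟨a, h1, h2, -⟩ := D.cl_eq hu
  exact Nat.pos_of_mul_pos_left (h2 ▸ Nat.mul_pos h1 Nat.card_pos)

theorem W_ge (D : Dat G p x y R s) (f : ℕ → ℕ) {u : G} (hu : u ∈ RS G p) :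
    (centralizer ({u} : Set G)).index * f (s u) ≤ W p s f (orderOf u) := by
  classical
  rw [← card_isConj_eq_index, Nat.card_eq_fintype_card, Fintype.card_subtype, ← smul_eq_mul,
    ← sum_const, sum_congr rfl (g := fun g => f (s g)) fun g hg => by
      obtain ⟨k, rfl⟩ := isConj_iff.1 (mem_filter.1 hg).2
      rw [D.cls]]
  refine sum_le_sum_of_subset fun g hg => ?_
  obtain ⟨k, rfl⟩ := isConj_iff.1 (mem_filter.1 hg).2
  simpa [mem_RS, orderOf_conj'] using hu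

theorem filter_eq (D : Dat G p x y R s) :
    (univ.filter fun g : G => ¬ p ∣ orderOf g) = (RS G p).cons 1 (by simp [mem_RS]) := by
  ext g
  by_cases h : g = 1 <;> simp [mem_RS, h, D.pp.one_lt.ne']

theorem tot_wt (D : Dat G p x y R s) : ∑ g ∈ RS G p, wt x y (s g) = (R ^ 2 - 1) * x * y := by
  have h := D.m2
  rw [D.filter_eq, sum_cons, D.one] at h
  apply Nat.cast_injective (R := ℤ)
  push_cast [wt_cast D.xy, Nat.cast_sub (Nat.one_le_pow 2 R D.R0)] at h ⊢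
  linear_combination h

theorem sum_const' (D : Dat G p x y R s) {H : Subgroup G} (hH : ¬ p ∣ Nat.card H) {j : ℕ}
    (h : ∀ g ∈ H, g ≠ 1 → s g = j) :
    Nat.card H ∣ j ∧ (Nat.card H - 1) * j ≤ Nat.card H * min x y := by
  classical
  obtain ⟨m, n, h1, h2⟩ := D.sub H hH
  rw [← add_sum_erase _ _ (mem_univ 1), sum_congr rfl (fun (g : H) hg => h g g.2 fun e =>
    ne_of_mem_erase hg (Subtype.ext e)), sum_const, card_erase_of_mem (mem_univ _), card_univ,
    ← Nat.card_eq_fintype_card, OneMemClass.coe_one, D.one, zero_add, smul_eq_mul] at h1 h2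
  obtain ⟨k, hk⟩ := Nat.exists_eq_add_of_lt (Nat.card_pos (α := H))
  rw [hk, zero_add, Nat.add_sub_cancel] at h1 h2 ⊢
  refine ⟨(Nat.Coprime.dvd_mul_left (by simp)).1 ((Nat.dvd_add_left (Dvd.intro_left m rfl)).1
    ⟨x, h1⟩), ?_⟩
  rw [mul_min]
  omega

theorem central (D : Dat G p x y R s) {r : ℕ} (hr : r.Prime) (h1 : r ∣ R * x * y) (h2 : r ≠ p) :
    ∃ u ∈ RS G p, orderOf u = r ∧ (∀ j, r ^ j ∣ R * x * y → r ^ j ∣ s u) ∧
      (r - 1) * s u ≤ r * min x y := by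
  have := Fact.mk hr
  obtain ⟨Q⟩ : Nonempty (Sylow r G) := inferInstance
  have hN : R * (R * x * y) ∣ Nat.card G := ⟨p, by rw [D.card]; ring⟩
  obtain ⟨u, -, ho, hc⟩ := Known.GL2.exists_central_orderOf Q.isPGroup'
    (Q.ne_bot_of_dvd_card ((h1.mul_left R).trans hN))
  have hp : ¬ p ∣ r := fun h => h2 ((Nat.prime_dvd_prime_iff_eq D.pp hr).1 h).symm
  have hu : u ∈ RS G p := mem_RS.2 ⟨ho ▸ hp, by
    rintro rfl
    exact hr.one_lt.ne (by simpa using ho)⟩
  refine ⟨u, hu, ho, fun j hj => ?_, ?_⟩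
  · obtain ⟨v, R', h3, h4⟩ := Nat.exists_eq_pow_mul_and_not_dvd D.R0.ne' r hr.ne_one
    obtain ⟨a, -, h5, -⟩ := D.cl_eq hu
    have h6 : r ^ (v + j) ∣ R * s u := ((Q.pow_dvd_card_of_pow_dvd_card (by
      rw [pow_add]
      exact (Nat.mul_dvd_mul ⟨R', h4⟩ hj).trans hN)).trans (card_dvd_of_le fun g hg =>
        mem_centralizer_singleton_iff.2 (hc g hg))).trans ⟨a, by rw [← h5, mul_comm]⟩
    rw [h4, pow_add, mul_assoc, Nat.mul_dvd_mul_iff_left (pow_pos hr.pos v)] at h6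
    exact (Nat.Coprime.pow_left j ((Nat.Prime.coprime_iff_not_dvd hr).2 h3)).dvd_of_dvd_mul_left h6
  · have := (D.sum_const' (H := zpowers u) (j := s u) (by rwa [Nat.card_zpowers, ho])
      fun g hg g1 => ?_).2
    · rwa [Nat.card_zpowers, ho] at this
    obtain ⟨m, rfl⟩ := (mem_powers_iff_mem_zpowers.2 hg : g ∈ Submonoid.powers u)
    refine D.pow u m ?_
    rw [ho]
    exact ((Nat.Prime.coprime_iff_not_dvd hr).2 fun h =>
      g1 (orderOf_dvd_iff_pow_eq_one.1 (ho ▸ h))).symm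

theorem fct (D : Dat G p x y R s) {r : ℕ} (hr : r.Prime) : ∃ j c,
    Fct p (R * x * y) (min x y) r j c ∧ c * wt x y j ≤ W p s (wt x y) r := by
  by_cases h : r ∣ R * x * y ∧ r ≠ p
  · obtain ⟨u, hu, rfl, h2, h3⟩ := D.central hr h.1 h.2
    obtain ⟨a, h4, -, h5⟩ := D.cl_eq hu
    exact ⟨s u, _, fun _ _ => ⟨D.spos hu, h2, h3, h5 ▸ Nat.le_mul_of_pos_right _ h4⟩,
      D.W_ge _ hu⟩
  · exact ⟨0, 0, fun h1 h2 => absurd ⟨h1, h2⟩ h, by simp⟩

theorem s_inv (D : Dat G p x y R s) {t t' : G} (ht : orderOf t = 2) (ht' : orderOf t' = 2) :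
    s t' = s t := by
  obtain ⟨g, rfl⟩ := isConj_iff.1 (D.cnj t t' ht ht')
  exact D.cls _ _

theorem cl_inv (D : Dat G p x y R s) {t : G} (ht : orderOf t = 2) :
    (centralizer ({t} : Set G)).index * s t = p * (R * x * y) := by
  refine Nat.eq_of_mul_eq_mul_left D.R0 ?_
  have := (centralizer ({t} : Set G)).index_mul_card
  rw [D.card, D.inv t ht] at this
  linear_combination this

theorem elem (D : Dat G p x y R s) (h5 : 5 ≤ p) {t : G} (ht : orderOf t = 2) {A : Subgroup G}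
    (hA : ∀ a ∈ A, a ^ 2 = 1) :
    Nat.card A ∣ s t ∧ (Nat.card A - 1) * s t ≤ Nat.card A * min x y := by
  refine D.sum_const' (fun h => ?_) fun g hg g1 => D.s_inv ht (orderOf_eq_prime (hA g hg) g1)
  have := Fact.mk D.pp
  obtain ⟨w, hw⟩ := exists_prime_orderOf_dvd_card' p h
  have h1 := orderOf_dvd_of_pow_eq_one (hA w w.2)
  rw [Subgroup.orderOf_coe, hw] at h1
  have := Nat.le_of_dvd two_pos h1
  omega

theorem two_mem (h5 : 5 ≤ p) {t : G} (ht : orderOf t = 2) : t ∈ RS G p :=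
  mem_RS.2 ⟨fun h => by have := Nat.le_of_dvd two_pos (ht ▸ h); omega, by
    rintro rfl; simp at ht⟩

theorem num (D : Dat G p x y R s) (h5 : 5 ≤ p) {n : ℕ} (hs : R * x * y ∣ 210 ^ n) {t : G}
    (ht : orderOf t = 2) {V : Subgroup G} (hV : ∀ a ∈ V, a ^ 2 = 1) (hV4 : Nat.card V = 4) :
    Nat.card G ∈ ordL ∧ ∀ A : Subgroup G, (∀ a ∈ A, a ^ 2 = 1) → 8 ∣ Nat.card A →
      (x, y, p, R, s t) ∈ eightL := by
  obtain ⟨k4, k3⟩ := D.elem h5 ht hV
  rw [hV4] at k4 k3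
  obtain ⟨s₃, c₃, f3, w3⟩ := D.fct Nat.prime_three
  obtain ⟨s₅, c₅, f5, w5⟩ := D.fct Nat.prime_five
  obtain ⟨s₇, c₇, f7, w7⟩ := D.fct Nat.prime_seven
  have w2 := D.W_ge (wt x y) (two_mem h5 ht)
  have hB := W_sum (p := p) (s := s) (wt x y) {2, 3, 5, 7}
  rw [D.tot_wt, sum_insert (by decide), sum_insert (by decide), sum_pair (by decide)] at hB
  rw [ht] at w2
  have := Alex.num D.pp h5 D.xy D.dvd D.md hs (D.spos (two_mem h5 ht)) k4 k3 (fun j hj => by
    rcases Nat.eq_zero_or_pos j with rfl | j0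
    · simp
    obtain ⟨u, -, h1, h2, -⟩ := D.central Nat.prime_two ((dvd_pow_self 2 j0.ne').trans hj)
      (by omega)
    exact D.s_inv h1 ht ▸ h2 j hj) (D.cl_inv ht) f3 f5 f7 (by omega)
  refine ⟨D.card ▸ this.1, fun A hA h8 => ?_⟩
  obtain ⟨a1, a2⟩ := D.elem h5 ht hA
  refine this.2 (h8.trans a1) ?_
  obtain ⟨k, hk⟩ := h8
  obtain ⟨k, rfl⟩ := Nat.exists_eq_add_of_lt (Nat.pos_of_mul_pos_left (hk ▸ Nat.card_pos))
  rw [hk, show 8 * (0 + k + 1) - 1 = 8 * k + 7 by omega] at a2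
  by_contra h
  nlinarith

end Dat

end Cfsg.Lib.Alex
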