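import Mathlib.NumberTheory.Pell
import Mathlib.Data.Nat.Squarefree
import Mathlib.Data.Nat.Factorization.Basic

/-!
# Størmer's theorem for the primes 2, 3, 5, 7

If `m (m + 1)` has no prime divisor above `7`, then `m` is one of 23 numbers.
-/

set_option autoImplicit false

namespace Cfsg.Lib.Alex

open Pell Pell.Solution₁

theorem dvd_pow_hundred {y N : ℕ} (h : y ∣ 210 ^ N) (hy : y < 2 ^ 100) : y ∣ 210 ^ 100 := by
  have h0 : y ≠ 0 := by rintro rfl; simp at h
  rw [← Nat.factorization_prime_le_iff_dvd h0 (by positivity)]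
  intro q hq
  by_cases hv : y.factorization q = 0
  · rw [hv]; exact Nat.zero_le _
  have h1 : q ∣ 210 := hq.dvd_of_dvd_pow ((Nat.dvd_of_factorization_pos hv).trans h)
  have h2 : 1 ≤ (210 : ℕ).factorization q := hq.factorization_pos_of_dvd (by norm_num) h1
  have h3 : y.factorization q < 100 := by
    by_contra h4
    have := Nat.le_of_dvd (Nat.pos_of_ne_zero h0) (Nat.ordProj_dvd y q)
    have h5 : 2 ^ 100 ≤ q ^ y.factorization q :=
      (Nat.pow_le_pow_left hq.two_le _).trans (Nat.pow_le_pow_right hq.pos (by omega))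
    omega
  rw [Nat.factorization_pow, Finsupp.smul_apply, smul_eq_mul]
  omega

/-- Powers of `x + y √d`. -/
def pw (d x y : ℕ) : ℕ → ℕ × ℕ
  | 0 => (1, 0)
  | n + 1 => ((pw d x y n).1 * x + d * ((pw d x y n).2 * y), (pw d x y n).1 * y + (pw d x y n).2 * x)

theorem pw_spec {d x y : ℕ} {a : Solution₁ (d : ℤ)} (hx : a.x = x) (hy : a.y = y) (n : ℕ) :
    (a ^ n).x = (pw d x y n).1 ∧ (a ^ n).y = (pw d x y n).2 := by
  induction n with
  | zero => simp [pw]
  | succ n ih => rw [pow_succ, x_mul, y_mul, ih.1, ih.2, hx, hy]; simp [pw]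

/-- The solutions whose second coordinate is divisible by `D`. -/
def dvdSub (d D : ℤ) : Subgroup (Solution₁ d) where
  carrier := {b | D ∣ b.y}
  one_mem' := by simp
  mul_mem' := fun {a b} ha hb => by
    simp only [Set.mem_ofPred_eq, y_mul] at *
    exact dvd_add (hb.mul_left _) (ha.mul_right _)
  inv_mem' := fun {a} ha => by simpa using ha

theorem y_dvd {d : ℤ} (a : Solution₁ d) {m n : ℕ} (h : m ∣ n) : (a ^ m).y ∣ (a ^ n).y := by
  obtain ⟨k, rfl⟩ := h
  rw [pow_mul]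
  exact (dvdSub d _).pow_mem (x := a ^ m) (dvd_refl (a ^ m).y) k

theorem dvd_y_of_coprime {d D : ℤ} (a : Solution₁ d) {m n : ℕ} (h : m.Coprime n)
    (hm : D ∣ (a ^ m).y) (hn : D ∣ (a ^ n).y) : D ∣ a.y := by
  have e : a = (a ^ m) ^ (m.gcdA n) * (a ^ n) ^ (m.gcdB n) := by
    rw [← zpow_natCast, ← zpow_natCast, ← zpow_mul, ← zpow_mul, ← zpow_add, ← Nat.gcd_eq_gcd_ab,
      h.gcd_eq_one]
    simp
  have : a ∈ dvdSub d D := by
    rw [e]
    exact mul_mem ((dvdSub d D).zpow_mem hm _) ((dvdSub d D).zpow_mem hn _)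
  exact this

theorem split_exp {n : ℕ} (h : 4 < n) :
    (∃ k ∈ [5, 6, 7, 8, 9], k ∣ n) ∨ ∃ l, l.Prime ∧ 11 ≤ l ∧ l ∣ n := by
  by_contra hc
  rw [not_or] at hc
  obtain ⟨h1, h2⟩ := hc
  simp only [List.mem_cons, List.not_mem_nil, or_false, exists_eq_or_imp, exists_eq_left,
    not_or] at h1
  have key : ∀ k, k ∣ n → ¬ 2 ∣ k → ¬ 3 ∣ k → k = 1 := by
    intro k hk a b
    by_contra h3
    have hp := Nat.minFac_prime h3
    have hd := Nat.minFac_dvd k
    have : ¬ 11 ≤ k.minFac := fun h4 => h2 ⟨_, hp, h4, hd.trans hk⟩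
    have h5 := hd.trans hk
    have h6 := hp.two_le
    generalize k.minFac = q at *
    have : q < 11 := by omega
    interval_cases q <;> omega
  by_cases a : 4 ∣ n
  · obtain ⟨k, rfl⟩ := a
    have := key k (Dvd.intro_left _ rfl) (by omega) (by omega)
    omega
  by_cases b : 2 ∣ n
  · obtain ⟨k, rfl⟩ := b
    have := key k (Dvd.intro_left _ rfl) (by omega) (by omega)
    omega
  by_cases c : 3 ∣ n
  · obtain ⟨k, rfl⟩ := c
    have := key k (Dvd.intro_left _ rfl) (by omega) (by omega)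
    omega
  have := key n dvd_rfl b c
  omega

/-- The numbers `m` with `m (m + 1)` free of primes above `7`. -/
def stL : List ℕ :=
  [1, 2, 3, 4, 5, 6, 7, 8, 9, 14, 15, 20, 24, 27, 35, 48, 49, 63, 80, 125, 224, 2400, 4374]

/-- The checked properties of a fundamental solution. -/
def Good (d x y : ℕ) : Prop :=
  x ^ 2 = 1 + d * y ^ 2 ∧ 1 < x ∧ 0 < y ∧ (∀ X < x, ∀ Y < y, 1 < X → X ^ 2 ≠ 1 + d * Y ^ 2) ∧
    (∀ r ∈ [2, 3, 5, 7], ∃ m ∈ [2, 3, 4, 5, 6, 7, 8], r * y ∣ (pw d x y m).2) ∧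
    (∀ n ∈ [5, 6, 7, 8, 9], ¬ (pw d x y n).2 ∣ 210 ^ 100 ∧ (pw d x y n).2 < 2 ^ 100) ∧
    ∀ n ∈ [1, 2, 3, 4], (pw d x y n).2 < 2 ^ 100 ∧ ((pw d x y n).2 ∣ 210 ^ 100 →
      (pw d x y n).1 % 2 = 1 → (pw d x y n).1 / 2 ∈ stL)

instance decGood (d x y : ℕ) : Decidable (Good d x y) := by unfold Good; infer_instance

theorem good_all : ∀ t ∈ [(2, 3, 2), (3, 2, 1), (5, 9, 4), (6, 5, 2), (7, 8, 3), (10, 19, 6),
    (14, 15, 4), (15, 4, 1), (21, 55, 12), (30, 11, 2), (35, 6, 1), (42, 13, 2), (70, 251, 30),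
    (105, 41, 4), (210, 29, 2)], Good t.1 t.2.1 t.2.2 := by decide +kernel

theorem Good.mem {d x y m Y N : ℕ} (h : Good d x y) (hm : 0 < m)
    (he : (2 * m + 1) ^ 2 = 1 + d * Y ^ 2) (hY : Y ∣ 210 ^ N) : m ∈ stL := by
  obtain ⟨h1, h2, h3, h4, h5, h6, h7⟩ := h
  let a : Solution₁ (d : ℤ) := Solution₁.mk x y (by zify at h1; linarith)
  have hx : a.x = x := rfl
  have hy : a.y = y := rfl
  have ha : IsFundamental a := by
    refine ⟨by rw [hx]; exact_mod_cast h2, by rw [hy]; exact_mod_cast h3, fun {b} hb => ?_⟩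
    by_contra hc
    have e : b.x.natAbs ^ 2 = 1 + d * b.y.natAbs ^ 2 := by
      zify; rw [sq_abs, sq_abs]; exact b.prop_x
    have l1 : b.x.natAbs < x := by omega
    refine h4 _ l1 b.y.natAbs ?_ (by omega) e
    by_contra l2
    have := Nat.mul_le_mul_left d (Nat.pow_le_pow_left (not_lt.1 l2) 2)
    have := Nat.pow_lt_pow_left l1 two_ne_zero
    omega
  obtain ⟨n, hn⟩ := ha.eq_pow_of_nonneg
    (a := Solution₁.mk (2 * m + 1 : ℕ) Y (by zify at he; push_cast; linarith))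
    (by rw [x_mk]; positivity) (by rw [y_mk]; positivity)
  have e1 : (2 * m + 1 : ℕ) = (pw d x y n).1 := by
    have := (pw_spec hx hy n).1
    rw [← hn, x_mk] at this
    exact_mod_cast this
  have e2 : Y = (pw d x y n).2 := by
    have := (pw_spec hx hy n).2
    rw [← hn, y_mk] at this
    exact_mod_cast this
  have hdv : ∀ k, k ∣ n → (pw d x y k).2 ∣ 210 ^ N := by
    intro k hk
    refine Dvd.dvd.trans ?_ hY
    have := y_dvd a hk
    rw [(pw_spec hx hy k).2, (pw_spec hx hy n).2, ← e2] at this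
    exact_mod_cast this
  have hn4 : n ≤ 4 := by
    by_contra hc
    rcases split_exp (not_le.1 hc) with ⟨k, hk, hkn⟩ | ⟨l, hl, h11, hln⟩
    · exact (h6 k hk).1 (dvd_pow_hundred (hdv k hkn) (h6 k hk).2)
    · obtain ⟨U, hU⟩ : y ∣ (pw d x y l).2 := by
        have := y_dvd a (one_dvd l)
        rw [pow_one, hy, (pw_spec hx hy l).2] at this
        exact_mod_cast this
      have hU1 : U ≠ 1 := by
        rintro rfl
        have := ha.y_strictMono (show (1 : ℤ) < l by omega)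
        simp only [zpow_one, zpow_natCast] at this
        rw [hy, (pw_spec hx hy l).2, hU] at this
        simp at this
      have hq := Nat.minFac_prime hU1
      have hqU := Nat.minFac_dvd U
      generalize U.minFac = q at hq hqU
      have hq2 : q ∣ 210 := hq.dvd_of_dvd_pow
        ((hqU.trans (Dvd.intro_left y hU.symm)).trans (hdv l hln))
      have hq3 : q ∈ [2, 3, 5, 7] := by
        have : q ∣ 2 * (3 * (5 * 7)) := hq2
        simp only [hq.dvd_mul, Nat.prime_dvd_prime_iff_eq hq, Nat.prime_two, Nat.prime_three,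
          Nat.prime_five, Nat.prime_seven] at this
        simpa using this
      obtain ⟨k, hk, hkd⟩ := h5 q hq3
      have hco : k.Coprime l := by
        refine (Nat.coprime_of_lt_prime ?_ ?_ hl).symm <;> simp at hk <;> omega
      have := dvd_y_of_coprime (D := (q * y : ℕ)) a hco
        (by rw [(pw_spec hx hy k).2]; exact_mod_cast hkd)
        (by rw [(pw_spec hx hy l).2, hU, mul_comm q]; exact_mod_cast Nat.mul_dvd_mul_left y hqU)
      rw [hy] at this
      have := Nat.le_of_dvd h3 (by exact_mod_cast this)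
      have := hq.two_le
      nlinarith
  have hn0 : n ≠ 0 := by
    rintro rfl
    simp [pw] at e1
    omega
  have hn1 : n ∈ [1, 2, 3, 4] := by simp; omega
  have := (h7 n hn1).2 (dvd_pow_hundred (hdv n dvd_rfl) (h7 n hn1).1) (by omega)
  rwa [← e1, show (2 * m + 1) / 2 = m by omega] at this

/-- Størmer's theorem for `{2, 3, 5, 7}`. -/
theorem mem_stL {m N : ℕ} (hm : 0 < m) (h : m * (m + 1) ∣ 210 ^ N) : m ∈ stL := by
  obtain ⟨d, Y, he, hd⟩ := Nat.sq_mul_squarefree (4 * (m * (m + 1)))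
  have h1 : 4 * (m * (m + 1)) ∣ 210 ^ (N + 2) := by
    rw [pow_add, mul_comm 4]
    exact Nat.mul_dvd_mul h (by norm_num)
  have h2 : d ∣ 210 :=
    (hd.dvd_pow_iff_dvd (n := N + 2) (by omega)).1 ((Dvd.intro_left _ he).trans h1)
  have h3 : Y ∣ 210 ^ (N + 2) :=
    ((dvd_pow_self Y two_ne_zero).trans (Dvd.intro _ he)).trans h1
  have h4 : (2 * m + 1) ^ 2 = 1 + d * Y ^ 2 := by nlinarith
  have h5 : d ∈ [1, 2, 3, 5, 6, 7, 10, 14, 15, 21, 30, 35, 42, 70, 105, 210] := by
    have : ∀ d ∈ Nat.divisors 210, d ∈ [1, 2, 3, 5, 6, 7, 10, 14, 15, 21, 30, 35, 42, 70, 105,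
      210] := by decide +kernel
    exact this d (Nat.mem_divisors.2 ⟨h2, by norm_num⟩)
  have g := good_all
  simp only [List.mem_cons, List.not_mem_nil, or_false, forall_eq_or_imp, forall_eq] at g h5
  obtain ⟨g1, g2, g3, g4, g5, g6, g7, g8, g9, g10, g11, g12, g13, g14, g15⟩ := g
  rcases h5 with rfl | rfl | rfl | rfl | rfl | rfl | rfl | rfl | rfl | rfl | rfl | rfl | rfl |
    rfl | rfl | rfl
  · exfalso
    rcases Nat.lt_or_ge Y (2 * m + 1) with h6 | h6
    · have := Nat.pow_le_pow_left (show Y ≤ 2 * m by omega) 2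
      nlinarith
    · have := Nat.pow_le_pow_left h6 2
      omega
  exacts [g1.mem hm h4 h3, g2.mem hm h4 h3, g3.mem hm h4 h3, g4.mem hm h4 h3, g5.mem hm h4 h3,
    g6.mem hm h4 h3, g7.mem hm h4 h3, g8.mem hm h4 h3, g9.mem hm h4 h3, g10.mem hm h4 h3,
    g11.mem hm h4 h3, g12.mem hm h4 h3, g13.mem hm h4 h3, g14.mem hm h4 h3, g15.mem hm h4 h3]

end Cfsg.Lib.Alex
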